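import Cfsg.Agent.H170.HL.OmRow

/-!
# The standard quadratic forms satisfy the hypotheses (helper170)
-/

set_option autoImplicit false

namespace Cfsg.Agent.H170.HL.OmRow

open Module Matrix QuadraticMap Cfsg.Agent.LieClassical.OrthCore Cfsg.Agent.LieClassical.OrthForms

variable {F : Type*} [Field F]

theorem goodQ_of {ι : Type} [Fintype ι] [DecidableEq ι] [Finite F] {Q : QuadraticForm F (ι → F)}
    (h : Nondeg Q) (hc : 5 ≤ Fintype.card ι) (hs : ∃ u : ι → F, u ≠ 0 ∧ Q u = 0) : GoodQ Q := by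
  have hnd : (polarBilin Q).Nondegenerate :=
    ⟨fun x hx => h x hx, fun x hx => h x (fun y => by
      have := hx y
      rw [polarBilin_apply_apply, polar_comm] at this
      exact this)⟩
  refine ⟨hnd, by omega, hs, ?_⟩
  intro g
  by_cases h2 : (2 : F) = 0
  · have hne : Nonempty ι := by
      rw [← Fintype.card_pos_iff]
      omega
    have := Cfsg.Agent.ClassicalGeometry.OrthDickson.index_commutator_two Q h2 hnd (Or.inr (by omega))
    exact Subgroup.mul_self_mem_of_index_two this g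
  · exact Cfsg.Agent.ClassicalGeometry.SiegelGen.mul_self_mem_commutator h2 Q hnd g

theorem goodQ_plus [Finite F] {m : ℕ} (hm : 3 ≤ m) : GoodQ (plusForm m F) := by
  refine goodQ_of (nondeg_plusForm m F) (by simp; omega) ?_
  refine ⟨Pi.single (Sum.inl ⟨0, by omega⟩) 1, ?_, ?_⟩
  · intro h
    have := congrFun h (Sum.inl ⟨0, by omega⟩)
    simp at this
  · rw [coe_plusForm, quadFormPlus_apply]
    refine Finset.sum_eq_zero fun i _ => ?_
    simp

theorem goodQ_minus [Finite F] {m : ℕ} (hm : 2 ≤ m) (a b : F)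
    (hab : ∀ z₁ z₂ : F, z₁ ^ 2 + a * z₁ * z₂ + b * z₂ ^ 2 = 0 → z₁ = 0 ∧ z₂ = 0) :
    GoodQ (minusForm m F a b) := by
  refine goodQ_of (nondeg_minusForm m F a b hab) (by simp; omega) ?_
  refine ⟨Pi.single (Sum.inl (Sum.inl ⟨0, by omega⟩)) 1, ?_, ?_⟩
  · intro h
    have := congrFun h (Sum.inl (Sum.inl ⟨0, by omega⟩))
    simp at this
  · rw [coe_minusForm, quadFormMinus_apply]
    simp

theorem goodQ_odd [Finite F] {m : ℕ} (hm : 2 ≤ m) (h2 : (2 : F) ≠ 0) : GoodQ (oddForm m F) := by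
  refine goodQ_of (nondeg_oddForm m F h2) (by simp; omega) ?_
  refine ⟨Pi.single (Sum.inr (Sum.inl ⟨0, by omega⟩)) 1, ?_, ?_⟩
  · intro h
    have := congrFun h (Sum.inr (Sum.inl ⟨0, by omega⟩))
    simp at this
  · rw [coe_oddForm, quadFormOdd_apply]
    simp

end Cfsg.Agent.H170.HL.OmRow
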