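import Cfsg.Agent.H170.HL.SpRow
import Cfsg.Agent.ClassicalGeometry.SiegelGen
import Cfsg.Agent.ClassicalGeometry.OrthDickson
import Cfsg.Agent.LieClassical.OmegaCenter
import Cfsg.Agent.LieClassical.OrthForms

/-!
# `P(z)` for the orthogonal groups (helper170)
-/

set_option autoImplicit false

namespace Cfsg.Agent.H170.HL.OmRow

open Module Cfsg.Agent.H167.OP Matrix QuadraticMap

set_option linter.unusedSectionVars false

variable {F : Type*} [Field F] {ι : Type} [Fintype ι] [DecidableEq ι]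

/-- inclusion into matrices -/
def inc (Q : (ι → F) → F) : Cfsg.Omega F Q →* Matrix ι ι F :=
  (Units.coeHom (Matrix ι ι F)).comp
    ((Cfsg.isometryGroup F Q).subtype.comp (Cfsg.Omega F Q).subtype)

theorem inc_injective {Q : (ι → F) → F} : Function.Injective (inc Q) := by
  intro a b h
  exact Subtype.ext (Subtype.ext (Units.ext h))

/-- matrices of isometries -/
def inc' (Q : (ι → F) → F) : Cfsg.isometryGroup F Q →* Matrix ι ι F :=
  (Units.coeHom (Matrix ι ι F)).comp (Cfsg.isometryGroup F Q).subtype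

theorem inc'_injective {Q : (ι → F) → F} : Function.Injective (inc' Q) := by
  intro a b h
  exact Subtype.ext (Units.ext h)

theorem inc_coe {Q : (ι → F) → F} (g : Cfsg.Omega F Q) : inc Q g = inc' Q g := rfl

theorem iso_apply {Q : (ι → F) → F} (g : Cfsg.isometryGroup F Q) (v : ι → F) :
    Q (rep (inc' Q) g v) = Q v := g.2 v v

theorem polar_apply (Q : QuadraticForm F (ι → F)) (g : Cfsg.isometryGroup F (⇑Q)) (u v : ι → F) :
    polarBilin Q (rep (inc' (⇑Q)) g u) (rep (inc' (⇑Q)) g v) = polarBilin Q u v := by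
  have h1 := iso_apply (Q := ⇑Q) g (u + v)
  have h2 := iso_apply (Q := ⇑Q) g u
  have h3 := iso_apply (Q := ⇑Q) g v
  rw [polarBilin_apply_apply, polarBilin_apply_apply, polar, polar, ← map_add, h1, h2, h3]

theorem polar_sym (Q : QuadraticForm F (ι → F)) (u v : ι → F) :
    polarBilin Q u v = 1 * polarBilin Q v u := by
  rw [polarBilin_apply_apply, polarBilin_apply_apply, polar_comm, one_mul]

theorem polar_nondeg (Q : QuadraticForm F (ι → F)) (hQ : (polarBilin Q).Nondegenerate) (x : ι → F)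
    (h : ∀ y, polarBilin Q y x = 0) : x = 0 := hQ.2 x h

/-- an endomorphism preserving the form belongs to the group -/
theorem exists_of_iso (Q : (ι → F) → F) (z z' : Module.End F (ι → F)) (hzz : z * z' = 1)
    (hzz' : z' * z = 1) (hz : ∀ v, Q (z v) = Q v) :
    ∃ A : Cfsg.isometryGroup F Q, rep (inc' Q) A = z := by
  let A : Matrix ι ι F := LinearMap.toMatrix' z
  let B : Matrix ι ι F := LinearMap.toMatrix' z'
  have hA : ∀ v, A *ᵥ v = z v := fun v => by
    have := Matrix.toLin'_apply A v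
    rw [← this, Matrix.toLin'_toMatrix']
  have hAB : A * B = 1 := by
    have := LinearMap.toMatrix'_mul z z'
    rw [hzz, LinearMap.toMatrix'_one] at this
    exact this.symm
  have hBA : B * A = 1 := by
    have := LinearMap.toMatrix'_mul z' z
    rw [hzz', LinearMap.toMatrix'_one] at this
    exact this.symm
  refine ⟨⟨⟨A, B, hAB, hBA⟩, ?_⟩, ?_⟩
  · intro u v
    show Q (A *ᵥ u) = Q u
    rw [hA, hz]
  · apply LinearMap.ext
    intro v
    exact hA v

/-- the hypotheses on the form -/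
structure GoodQ (Q : QuadraticForm F (ι → F)) : Prop where
  nd : (polarBilin Q).Nondegenerate
  card : 3 ≤ Fintype.card ι
  sing : ∃ u : ι → F, u ≠ 0 ∧ Q u = 0
  sq : ∀ g : Cfsg.isometryGroup F (⇑Q), g * g ∈ commutator (Cfsg.isometryGroup F (⇑Q))

theorem mem_omega_of_odd {Q : QuadraticForm F (ι → F)} (hQ : GoodQ Q) {t : ℕ} (hodd : Odd t)
    {g : Cfsg.isometryGroup F (⇑Q)} (hg : g ^ t = 1) : g ∈ Cfsg.Omega F (⇑Q) := by
  obtain ⟨k, rfl⟩ := hodd
  have h1 : g * (g * g) ^ k = 1 := by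
    rw [← pow_two, ← pow_mul, ← pow_succ', hg]
  have h2 : g = ((g * g) ^ k)⁻¹ := eq_inv_of_mul_eq_one_left h1
  rw [h2]
  exact Subgroup.inv_mem _ (Subgroup.pow_mem _ (hQ.sq g) _)

/-- existence of an element of small support -/
theorem exists_small_om [Finite F] {Q : QuadraticForm F (ι → F)} (hQ : GoodQ Q) {t : ℕ}
    (ht : t.Prime) (hodd : Odd t) (htF : (t : F) ≠ 0) (htd : t ∣ Nat.card (Cfsg.Omega F (⇑Q))) :
    ∃ z : Cfsg.Omega F (⇑Q), z ∉ Subgroup.center (Cfsg.Omega F (⇑Q)) ∧ z ^ t = 1 ∧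
      rk (rep (inc (⇑Q))) z ≤ t - 1 := by
  classical
  have htf : Fact t.Prime := ⟨ht⟩
  have : Finite (Cfsg.Omega F (⇑Q)) := inferInstance
  obtain ⟨y0, hy0⟩ := exists_prime_orderOf_dvd_card' (G := Cfsg.Omega F (⇑Q)) t htd
  have hρ := rep_injective (inc'_injective (Q := (⇑Q : (ι → F) → F)))
  let y : Cfsg.isometryGroup F (⇑Q) := y0
  have hy0t : y ^ t = 1 := by
    have : y0 ^ t = 1 := by rw [← hy0, pow_orderOf_eq_one]
    exact congrArg Subtype.val this
  have hyt : (rep (inc' (⇑Q)) y) ^ t = 1 := by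
    rw [← SpRow.rep_pow_eq _ hρ, hy0t]
  have hy1 : rep (inc' (⇑Q)) y ≠ 1 := by
    intro h
    have h1 : y = 1 := hρ (by rw [h, map_one])
    have h2 : y0 = 1 := Subtype.ext h1
    rw [h2, orderOf_one] at hy0
    exact ht.one_lt.ne hy0
  have hiso := polar_apply Q y
  obtain ⟨v, hv, hvi⟩ := exists_vec (polarBilin Q) (polar_nondeg Q hQ.nd) (ε := 1) (by ring)
    (polar_sym Q) hodd htF hyt hy1 hiso
  have hr : ∀ x y, polarBilin Q x y = 0 → polarBilin Q y x = 0 := by
    intro x y h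
    rw [polar_sym, h, mul_zero]
  obtain ⟨z, U, hz1, hz2, hz3, -, hUy, hzU, hzO, hdec⟩ :=
    exists_small (polarBilin Q) hr ht.pos htF hyt hiso hv hvi
  have hzQ : ∀ v, Q (z v) = Q v := by
    intro v
    obtain ⟨u, hu, w, hw, rfl⟩ := hdec v
    have h1 : polar Q u w = 0 := hw u hu
    have h2 : polar Q (rep (inc' (⇑Q)) y u) w = 0 := hw _ (hUy u hu)
    rw [map_add, hzU u hu, hzO w hw]
    have h3 : Q (rep (inc' (⇑Q)) y u + w) = Q (rep (inc' (⇑Q)) y u) + Q w := by
      rw [polar] at h2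
      linear_combination h2
    have h4 : Q (u + w) = Q u + Q w := by
      rw [polar] at h1
      linear_combination h1
    rw [h3, h4, iso_apply (Q := ⇑Q) y u]
  have hpos := ht.pos
  obtain ⟨A, hA⟩ := exists_of_iso (⇑Q) z (z ^ (t - 1))
    (by rw [← pow_succ', Nat.sub_add_cancel hpos, hz1])
    (by rw [← pow_succ, Nat.sub_add_cancel hpos, hz1]) hzQ
  have hAt : A ^ t = 1 := by rw [SpRow.rep_pow_eq _ hρ, hA, hz1]
  have hAm := mem_omega_of_odd hQ hodd hAt
  refine ⟨⟨A, hAm⟩, ?_, ?_, ?_⟩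
  · intro hc
    apply hz2
    have h1 := (Cfsg.Agent.LieClassical.OmegaCenter.mem_center_omega_iff Q hQ.nd hQ.card hQ.sing
      ⟨A, hAm⟩).mp hc
    have h2 : A * A = 1 := by
      apply inc'_injective
      rw [map_mul, map_one]
      have h1' : inc' (⇑Q) A = 1 ∨ inc' (⇑Q) A = -1 := h1
      rcases h1' with h | h
      · rw [h, one_mul]
      · rw [h, neg_mul_neg, one_mul]
    have h3 : A = 1 := by
      obtain ⟨k, rfl⟩ := hodd
      rw [pow_succ, pow_mul, pow_two, h2, one_pow, one_mul] at hAt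
      exact hAt
    rw [← hA, h3, map_one]
  · exact Subtype.ext hAt
  · unfold rk
    have : rep (inc (⇑Q)) ⟨A, hAm⟩ = z := hA
    rw [this]
    exact hz3

/-- **`P(z)` for `POmega`** -/
theorem exists_pz [Finite F] {Q : QuadraticForm F (ι → F)} (hQ : GoodQ Q) {G : Type*} [Group G]
    [Finite G] (e : G ≃* Cfsg.POmega F (⇑Q))
    (hbeta : ∀ t : ℕ, t.Prime → Odd t → (t : F) ≠ 0 → BetaP (rep (inc (⇑Q))) t)
    (π : Set ℕ) (h2 : 2 ∉ π) (hp : ∀ r ∈ π, r.Prime → (r : F) ≠ 0)
    (hne : ∃ r ∈ π, r.Prime ∧ r ∣ Nat.card G) :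
    ∃ t ∈ π, t.Prime ∧ t ∣ Nat.card G ∧ ∃ z : G, z ≠ 1 ∧ z ^ t = 1 ∧ PZ t π z := by
  have : Finite (Cfsg.Omega F (⇑Q)) := inferInstance
  let φ : Cfsg.Omega F (⇑Q) →* G :=
    (e.symm : Cfsg.POmega F (⇑Q) →* G).comp
      (QuotientGroup.mk' (Subgroup.center (Cfsg.Omega F (⇑Q))))
  have hφ : Function.Surjective φ :=
    e.symm.surjective.comp (QuotientGroup.mk'_surjective _)
  have hφ1 : ∀ k, φ k = 1 ↔ k ∈ Subgroup.center (Cfsg.Omega F (⇑Q)) := by
    intro k
    rw [← QuotientGroup.eq_one_iff]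
    constructor
    · intro h
      exact e.symm.injective (h.trans (map_one e.symm).symm)
    · intro h
      show e.symm (QuotientGroup.mk' _ k) = 1
      rw [QuotientGroup.mk'_apply, h, map_one]
  refine exists_pz_of_form φ hφ (fun k hk x => ?_) (rep (inc (⇑Q))) (rep_injective inc_injective)
    (polarBilin Q) (fun g u v => polar_apply Q g u v) (polar_nondeg Q hQ.nd) hbeta π h2 hp ?_ hne
  · exact (Subgroup.mem_center_iff.mp ((hφ1 k).mp hk) x).symm
  · intro t ht hodd htF htd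
    have h1 : Nat.card G ∣ Nat.card (Cfsg.Omega F (⇑Q)) :=
      Subgroup.card_dvd_of_surjective φ hφ
    obtain ⟨z, hz1, hz2, hz3⟩ := exists_small_om hQ ht hodd htF (htd.trans h1)
    exact ⟨z, fun h => hz1 ((hφ1 z).mp h), hz2, hz3⟩

end Cfsg.Agent.H170.HL.OmRow
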