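import Cfsg.Agent.H170.HL.PZ

/-!
# `dim V_E ≥ 2` in the presence of a form (helper170)
-/

set_option autoImplicit false

namespace Cfsg.Agent.H170.HL

open Module Cfsg.Agent.H167.OP

variable {F : Type*} [Field F] {V : Type*} [AddCommGroup V] [Module F V] {G : Type*} [Group G]
  {σ : F →+* F}

/-- the averaging projection is self-adjoint -/
theorem avg_adj [Finite G] (ρ : Representation F G V) (f : V →ₗ[F] V →ₛₗ[σ] F)
    (hf : ∀ g u v, f (ρ g u) (ρ g v) = f u v) (E : Subgroup G) (u v : V) :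
    f (avg ρ E u) v = f u (avg ρ E v) := by
  classical
  have : Fintype E := Fintype.ofFinite E
  have hσ : σ ((Nat.card E : F)⁻¹) = (Nat.card E : F)⁻¹ := by
    rw [map_inv₀, map_natCast]
  rw [avg_apply, avg_apply, map_smul, LinearMap.map_smulₛₗ, hσ, LinearMap.smul_apply, map_sum,
    map_sum, LinearMap.sum_apply]
  congr 1
  refine Fintype.sum_equiv (Equiv.inv E) _ _ fun e => ?_
  show f (ρ e u) v = f u (ρ ((e⁻¹ : E) : G) v)
  have h1 := hf e u (ρ (e : G)⁻¹ v)
  rw [ap_inv] at h1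
  exact h1

/-- if `V_E` is a line, then it is not isotropic -/
theorem VE_self_ne_zero [Finite G] (ρ : Representation F G V) (f : V →ₗ[F] V →ₛₗ[σ] F)
    (hf : ∀ g u v, f (ρ g u) (ρ g v) = f u v) (hnd : ∀ x, (∀ y, f y x = 0) → x = 0)
    {D E : Subgroup G} (hED : E ≤ D) (hE : (Nat.card E : F) ≠ 0) (hD : (Nat.card D : F) ≠ 0)
    {w : V} (hw : w ∈ VE ρ E D)
    (hw0 : w ≠ 0) (h1 : ∀ v ∈ VE ρ E D, ∃ c : F, v = c • w) : f w w ≠ 0 := by
  intro h0
  apply hw0
  apply hnd
  intro v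
  have h2 : f (avg ρ E v - avg ρ D v) w = f v w := by
    rw [map_sub, LinearMap.sub_apply, avg_adj ρ f hf, avg_adj ρ f hf, hw.2, map_zero, sub_zero,
      avg_fixed ρ E hE hw.1]
  have h3 : avg ρ E v - avg ρ D v ∈ VE ρ E D := by
    refine ⟨fun e he => ?_, ?_⟩
    · rw [map_sub, map_avg ρ E he, map_avg ρ D (hED he)]
    · have h4 : avg ρ D (avg ρ D v) = avg ρ D v := avg_fixed ρ D hD (fun e he => map_avg ρ D he v)
      have h5 : avg ρ D (avg ρ E v) = avg ρ D v := by
        classical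
        have : Fintype E := Fintype.ofFinite E
        rw [avg_apply ρ E, map_smul, map_sum]
        have : ∀ e : E, avg ρ D (ρ e v) = avg ρ D v := fun e => avg_map ρ D (hED e.2) v
        rw [Finset.sum_congr rfl (fun e _ => this e), Finset.sum_const, Finset.card_univ,
          ← Nat.cast_smul_eq_nsmul F, smul_smul, ← Nat.card_eq_fintype_card,
          inv_mul_cancel₀ hE, one_smul]
      rw [map_sub, h5, h4, sub_self]
  obtain ⟨c, hc⟩ := h1 _ h3
  rw [← h2, hc, map_smul, LinearMap.smul_apply, h0, smul_zero]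

/-- `V_E` is invariant under `D` for abelian `D` -/
theorem VE_inv [Finite G] (ρ : Representation F G V) {D E : Subgroup G} (hED : E ≤ D)
    (hab : ∀ a ∈ D, ∀ b ∈ D, a * b = b * a) {x : G} (hx : x ∈ D) {u : V} (hu : u ∈ VE ρ E D) :
    ρ x u ∈ VE ρ E D := by
  refine ⟨fun e he => ?_, ?_⟩
  · rw [← mul_ap, hab e (hED he) x hx, mul_ap, hu.1 e he]
  · rw [avg_map ρ D hx, hu.2]

/-- a line `V_E`: scalars -/
theorem VE_line [Finite G] [FiniteDimensional F V] (ρ : Representation F G V) {D E : Subgroup G}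
    (hV : finrank F (VE ρ E D) = 1) :
    ∃ w ∈ VE ρ E D, w ≠ 0 ∧ ∀ v ∈ VE ρ E D, ∃ c : F, v = c • w := by
  obtain ⟨w, hw0, hw⟩ := finrank_eq_one_iff'.mp hV
  refine ⟨w, w.2, ?_, ?_⟩
  · intro h
    exact hw0 (Subtype.ext h)
  · intro v hv
    obtain ⟨c, hc⟩ := hw ⟨v, hv⟩
    exact ⟨c, (congrArg Subtype.val hc).symm⟩

/-- symmetric and alternating forms: `dim V_E ≥ 2` -/
theorem two_le_VE [Finite G] [FiniteDimensional F V] (ρ : Representation F G V)
    (f : V →ₗ[F] V →ₗ[F] F)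
    (hf : ∀ g u v, f (ρ g u) (ρ g v) = f u v) (hnd : ∀ x, (∀ y, f y x = 0) → x = 0)
    {D E : Subgroup G} (hED : E ≤ D) (hE : (Nat.card E : F) ≠ 0) (hD : (Nat.card D : F) ≠ 0)
    (hab : ∀ a ∈ D, ∀ b ∈ D, a * b = b * a) {r : ℕ} (hr : Odd r) (hexp : ∀ a ∈ D, a ^ r = 1)
    (hV : VE ρ E D ≠ ⊥) : 2 ≤ finrank F (VE ρ E D) := by
  by_contra hcon
  have h0 : 0 < finrank F (VE ρ E D) := by
    rw [Module.finrank_pos_iff]
    exact Submodule.nontrivial_iff_ne_bot.mpr hV
  have h1 : finrank F (VE ρ E D) = 1 := by omega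
  obtain ⟨w, hw, hw0, hl⟩ := VE_line ρ h1
  have hww := VE_self_ne_zero ρ f hf hnd hED hE hD hw hw0 hl
  have h2 : ∀ d ∈ D, ρ d w = w := by
    intro d hd
    obtain ⟨c, hc⟩ := hl _ (VE_inv ρ hED hab hd hw)
    have h3 := hf d w w
    rw [hc, map_smul, map_smul, LinearMap.smul_apply, smul_eq_mul, smul_eq_mul, ← mul_assoc] at h3
    have h4 : c * c = 1 := by
      have := mul_right_cancel₀ hww (h3.trans (one_mul _).symm)
      exact this
    have h5 : ∀ n : ℕ, ρ (d ^ n) w = c ^ n • w := by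
      intro n
      induction n with
      | zero => rw [pow_zero, one_ap, pow_zero, one_smul]
      | succ n ih => rw [pow_succ', mul_ap, ih, map_smul, hc, smul_smul, pow_succ]
    have h6 := h5 r
    rw [hexp d hd, one_ap] at h6
    have h7 : c ^ r = 1 := by
      have h8 : (c ^ r - 1) • w = 0 := by rw [sub_smul, one_smul, ← h6, sub_self]
      rcases smul_eq_zero.mp h8 with h9 | h9
      · exact sub_eq_zero.mp h9
      · exact absurd h9 hw0
    have h8 : c = 1 := by
      obtain ⟨k, rfl⟩ := hr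
      rw [pow_succ, pow_mul, pow_two, h4, one_pow, one_mul] at h7
      exact h7
    rw [hc, h8, one_smul]
  apply hw0
  rw [← avg_fixed ρ D hD h2, hw.2]

end Cfsg.Agent.H170.HL
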