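import Cfsg.Agent.H560.HallKey
import Cfsg.Agent.H565.OddBorel
import Cfsg.Agent.H167.OP.Beta
import Cfsg.Agent.H170.HL.OmRows

/-!
# The rows `PSp`, `POmega` of the conjugacy of odd order Hall subgroups (helper170)
-/

set_option autoImplicit false

namespace Cfsg.Agent.H170.HL.Rows

open Cfsg Cfsg.Agent.H553.OddHall Cfsg.Agent.H560.HallKey Cfsg.Agent.H167.OP

universe u

/-- a group of Lie type in characteristic `p`: it is enough to find `z` with `P(z)` if `p ∉ π` -/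
theorem oddC_of_pz {G : Type u} [Group G] [Finite G] [IsSimpleGroup G]
    (hnc : ¬ IsMulCommutative G) (hind : OddInd G) {p : ℕ} (hp : p.Prime)
    (hG : IsLieTypeChar p G)
    (h : ∀ π : Set ℕ, 2 ∉ π → p ∉ π → (∃ r ∈ π, r.Prime ∧ r ∣ Nat.card G) →
      ∃ t ∈ π, t.Prime ∧ t ∣ Nat.card G ∧ ∃ z : G, z ≠ 1 ∧ z ^ t = 1 ∧ HL.PZ t π z) : OddC G := by
  refine oddC_of_two ?_
  intro π h2 hπ hlt H K hH hK
  by_cases hpπ : p ∈ π
  · exact Cfsg.Agent.H565.OddBorel.conj_of_lie hp hG h2 hpπ hH hK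
  · obtain ⟨s, hs, -⟩ := hlt
    obtain ⟨t, htπ, ht, htd, z, hz1, hzt, hP⟩ := h π h2 hpπ ⟨s, hs, (hπ s hs).1, (hπ s hs).2⟩
    have htf : Fact t.Prime := ⟨ht⟩
    have hord : orderOf z = t ^ 1 := by
      rw [pow_one]
      exact orderOf_eq_prime hzt hz1
    exact conj_of_PZ hnc hind h2 htπ
      (Cfsg.Agent.H560.HallKey.PZ.of_solvable h2 fun g hsol hpi => hP g hsol hpi) hz1
      (zpowers_pgroup hord) hH hK

theorem beta_all {F : Type*} [Field F] {V : Type*} [AddCommGroup V] [Module F V]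
    [FiniteDimensional F V] {K : Type*} [Group K] [Finite K] {ρ : Representation F K V}
    (hρ : Function.Injective ρ) : ∀ t : ℕ, t.Prime → Odd t → (t : F) ≠ 0 → BetaP ρ t := by
  intro t ht hodd _ s y D hs hD hsF hab
  refine Cfsg.Agent.H167.OP.beta ρ hρ hD ?_ ?_ hsF hab
  · rintro rfl
    exact absurd hs (by decide)
  · rintro rfl
    exact absurd hodd (by decide)

theorem cast_ne_zero {F : Type*} [Field F] {p : ℕ} [CharP F p] (hp : p.Prime) {π : Set ℕ}
    (hpπ : p ∉ π) : ∀ r ∈ π, r.Prime → (r : F) ≠ 0 := by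
  intro r hr hrp h
  rw [CharP.cast_eq_zero_iff F p, Nat.prime_dvd_prime_iff_eq hp hrp] at h
  exact hpπ (h ▸ hr)

/-- **row `PSp`** -/
theorem oddC_psp {G : Type u} [Group G] [Finite G] [IsSimpleGroup G]
    (hnc : ¬ IsMulCommutative G) (hind : OddInd G) {p : ℕ} (hG : IsPSpChar p G) : OddC G := by
  obtain ⟨F, _, _, hchar, m, hm, hm2, ⟨e⟩⟩ := hG
  have hp : p.Prime := CharP.char_is_prime F p
  have hlie : IsLieTypeChar p G :=
    Or.inr (Or.inl ⟨F, inferInstance, inferInstance, hchar, m, hm, hm2, ⟨e⟩⟩)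
  refine oddC_of_pz hnc hind hp hlie fun π h2 hpπ hne => ?_
  exact SpRow.exists_pz e (beta_all (rep_injective SpRow.inc_injective)) π h2
    (cast_ne_zero hp hpπ) hne

/-- a form version -/
theorem oddC_omega {G : Type u} [Group G] [Finite G] [IsSimpleGroup G]
    (hnc : ¬ IsMulCommutative G) (hind : OddInd G) {p : ℕ} (hp : p.Prime)
    (hlie : IsLieTypeChar p G) {F : Type*} [Field F] [Finite F] [CharP F p] {ι : Type} [Fintype ι]
    [DecidableEq ι] {Q : QuadraticForm F (ι → F)} (hQ : OmRow.GoodQ Q) {Q' : (ι → F) → F}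
    (hQQ : ⇑Q = Q') (e : G ≃* Cfsg.POmega F Q') : OddC G := by
  subst hQQ
  refine oddC_of_pz hnc hind hp hlie fun π h2 hpπ hne => ?_
  exact OmRow.exists_pz hQ e (beta_all (rep_injective OmRow.inc_injective)) π h2
    (cast_ne_zero hp hpπ) hne

/-- **row `POmega`, odd dimension** -/
theorem oddC_pomegaOdd {G : Type u} [Group G] [Finite G] [IsSimpleGroup G]
    (hnc : ¬ IsMulCommutative G) (hind : OddInd G) {p : ℕ} (hG : IsPOmegaOddChar p G) : OddC G := by
  obtain ⟨F, _, _, hchar, m, hm, hodd, ⟨e⟩⟩ := hG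
  have hp : p.Prime := CharP.char_is_prime F p
  have hlie : IsLieTypeChar p G :=
    Or.inr (Or.inr (Or.inr (Or.inl ⟨F, inferInstance, inferInstance, hchar, m, hm, hodd, ⟨e⟩⟩)))
  have h2 : (2 : F) ≠ 0 := by
    intro h
    have h1 : ((2 : ℕ) : F) = 0 := by exact_mod_cast h
    rw [CharP.cast_eq_zero_iff F p, Nat.prime_dvd_prime_iff_eq hp Nat.prime_two] at h1
    subst h1
    obtain ⟨n, hn⟩ := FiniteField.card F 2
    rw [hn.2] at hodd
    have : Even (2 ^ (n : ℕ)) := (Nat.even_pow.mpr ⟨even_two, n.ne_zero⟩)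
    exact (Nat.not_even_iff_odd.mpr hodd) this
  have hc := Cfsg.Agent.LieClassical.OrthForms.coe_oddForm m F
  exact oddC_omega hnc hind hp hlie (OmRow.goodQ_odd (by omega) h2) hc e

/-- **row `POmega`, plus type** -/
theorem oddC_pomegaPlus {G : Type u} [Group G] [Finite G] [IsSimpleGroup G]
    (hnc : ¬ IsMulCommutative G) (hind : OddInd G) {p : ℕ} (hG : IsPOmegaPlusChar p G) :
    OddC G := by
  obtain ⟨F, _, _, hchar, m, hm, ⟨e⟩⟩ := hG
  have hp : p.Prime := CharP.char_is_prime F p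
  have hlie : IsLieTypeChar p G :=
    Or.inr (Or.inr (Or.inr (Or.inr (Or.inl ⟨F, inferInstance, inferInstance, hchar, m, hm, ⟨e⟩⟩))))
  have hc := Cfsg.Agent.LieClassical.OrthForms.coe_plusForm m F
  exact oddC_omega hnc hind hp hlie (OmRow.goodQ_plus (by omega)) hc e

/-- **row `POmega`, minus type** -/
theorem oddC_pomegaMinus {G : Type u} [Group G] [Finite G] [IsSimpleGroup G]
    (hnc : ¬ IsMulCommutative G) (hind : OddInd G) {p : ℕ} (hG : IsPOmegaMinusChar p G) :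
    OddC G := by
  obtain ⟨F, _, _, hchar, m, a, b, hm, hab, ⟨e⟩⟩ := hG
  have hp : p.Prime := CharP.char_is_prime F p
  have hlie : IsLieTypeChar p G :=
    Or.inr (Or.inr (Or.inr (Or.inr (Or.inr (Or.inl
      ⟨F, inferInstance, inferInstance, hchar, m, a, b, hm, hab, ⟨e⟩⟩)))))
  have hc := Cfsg.Agent.LieClassical.OrthForms.coe_minusForm (m - 1) F a b
  exact oddC_omega hnc hind hp hlie (OmRow.goodQ_minus (by omega) a b hab) hc e

end Cfsg.Agent.H170.HL.Rows
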