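import Mathlib

/-!
# Fixed spaces of linear automorphisms

* `Fx g`: the fixed space; `two_mul_le`: `2 dim C(x) ≤ dim V + dim C([x, c])`;
* `split_le`, `split_ne`: two commuting elements `y, z` of order `r`, `z` without fixed vectors on `U`
  and `y z` conjugate to `y` on `U`;
* `ord_le`: an element of order `r` without fixed vectors needs dimension at least the order of `q`
  modulo `r`.
-/

set_option autoImplicit false

namespace Cfsg.Agent.H170.HL

open Module

variable {F V : Type*} [Field F] [AddCommGroup V] [Module F V]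

/-- the fixed space -/
def Fx (g : V ≃ₗ[F] V) : Submodule F V := LinearMap.eqLocus (g : V →ₗ[F] V) LinearMap.id

theorem mem_Fx {g : V ≃ₗ[F] V} {v : V} : v ∈ Fx g ↔ g v = v := by
  simp [Fx, LinearMap.mem_eqLocus]

theorem Fx_one : Fx (1 : V ≃ₗ[F] V) = ⊤ := by
  ext v
  simp [mem_Fx]

theorem Fx_pow {g : V ≃ₗ[F] V} (n : ℕ) : Fx g ≤ Fx (g ^ n) := by
  intro v hv
  rw [mem_Fx] at hv ⊢
  induction n with
  | zero => simp
  | succ n ih => rw [pow_succ, LinearEquiv.mul_apply, hv, ih]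

theorem Fx_eq_top {g : V ≃ₗ[F] V} (h : Fx g = ⊤) : g = 1 := by
  ext v
  have h1 : v ∈ Fx g := h ▸ Submodule.mem_top
  exact mem_Fx.1 h1

theorem map_Fx (c x : V ≃ₗ[F] V) :
    (Fx x).map (c : V →ₗ[F] V) = Fx (c * x * c⁻¹) := by
  ext v
  rw [Submodule.mem_map, mem_Fx]
  constructor
  · rintro ⟨w, hw, rfl⟩
    rw [mem_Fx] at hw
    change (c * x * c⁻¹) (c w) = c w
    rw [← LinearEquiv.mul_apply, inv_mul_cancel_right, LinearEquiv.mul_apply, hw]
  · intro h
    refine ⟨c⁻¹ v, ?_, ?_⟩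
    · rw [mem_Fx]
      have h2 : c⁻¹ ((c * x * c⁻¹) v) = c⁻¹ v := by rw [h]
      rw [← LinearEquiv.mul_apply] at h2
      have h3 : c⁻¹ * (c * x * c⁻¹) = x * c⁻¹ := by group
      rw [h3] at h2
      exact h2
    · change c (c⁻¹ v) = v
      rw [← LinearEquiv.mul_apply, mul_inv_cancel]
      rfl

theorem finrank_Fx_conj [FiniteDimensional F V] (c x : V ≃ₗ[F] V) :
    finrank F (Fx (c * x * c⁻¹)) = finrank F (Fx x) := by
  rw [← map_Fx]
  exact LinearEquiv.finrank_map_eq c (Fx x)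

/-- the fixed space of a commutator -/
theorem two_mul_le [FiniteDimensional F V] (x c : V ≃ₗ[F] V) :
    2 * finrank F (Fx x) ≤ finrank F V + finrank F (Fx (x * (c * x⁻¹ * c⁻¹))) := by
  have h1 : Fx x ⊓ Fx (c * x * c⁻¹) ≤ Fx (x * (c * x⁻¹ * c⁻¹)) := by
    rintro v ⟨h1, h2⟩
    rw [SetLike.mem_coe, mem_Fx] at h1 h2
    rw [mem_Fx, LinearEquiv.mul_apply]
    have h3 : (c * x⁻¹ * c⁻¹) v = v := by
      conv_lhs => rw [← h2]
      rw [← LinearEquiv.mul_apply]
      have : (c * x⁻¹ * c⁻¹) * (c * x * c⁻¹) = 1 := by group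
      rw [this]
      rfl
    rw [h3, h1]
  have h2 := Submodule.finrank_sup_add_finrank_inf_eq (Fx x) (Fx (c * x * c⁻¹))
  have h3 := Submodule.finrank_le (Fx x ⊔ Fx (c * x * c⁻¹))
  have h4 := Submodule.finrank_mono h1
  rw [finrank_Fx_conj] at h2
  omega

/-! ### The splitting -/

section split

variable {r : ℕ} {y z u : V ≃ₗ[F] V} {U : Submodule F V}

/-- the sum of the powers of `g` -/
def Nm (r : ℕ) (g : V ≃ₗ[F] V) : V →ₗ[F] V := ∑ j ∈ Finset.range r, ((g ^ j : V ≃ₗ[F] V) : V →ₗ[F] V)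

theorem Nm_apply (g : V ≃ₗ[F] V) (v : V) : Nm r g v = ∑ j ∈ Finset.range r, (g ^ j) v := by
  simp [Nm, LinearMap.sum_apply]

theorem apply_Nm {g : V ≃ₗ[F] V} (hg : g ^ r = 1) (v : V) : g (Nm r g v) = Nm r g v := by
  rw [Nm_apply, map_sum]
  have h1 : ∀ j, g ((g ^ j) v) = (g ^ (j + 1)) v := by
    intro j
    rw [pow_succ', LinearEquiv.mul_apply]
  simp only [h1]
  have h2 := Finset.sum_range_succ (fun j => (g ^ j) v) r
  have h3 := Finset.sum_range_succ' (fun j => (g ^ j) v) r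
  rw [h2] at h3
  have h4 : (g ^ r) v = v := by rw [hg]; rfl
  have h5 : (g ^ 0) v = v := by rw [pow_zero]; rfl
  rw [h4, h5] at h3
  exact (add_right_cancel h3).symm

theorem Nm_mem {g : V ≃ₗ[F] V} (hU : ∀ v ∈ U, g v ∈ U) {v : V} (hv : v ∈ U) : Nm r g v ∈ U := by
  rw [Nm_apply]
  refine Submodule.sum_mem _ fun j _ => ?_
  clear * - hU hv
  induction j with
  | zero => simpa using hv
  | succ j ih => rw [pow_succ', LinearEquiv.mul_apply]; exact hU _ ih

/-- if `g` has no fixed vector in `U`, the norm vanishes on `U` -/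
theorem Nm_eq_zero {g : V ≃ₗ[F] V} (hg : g ^ r = 1) (hU : ∀ v ∈ U, g v ∈ U)
    (hf : ∀ v ∈ U, g v = v → v = 0) {v : V} (hv : v ∈ U) : Nm r g v = 0 :=
  hf _ (Nm_mem hU hv) (apply_Nm hg v)

theorem Nm_of_fixed {g : V ≃ₗ[F] V} {v : V} (hv : g v = v) : Nm r g v = (r : F) • v := by
  rw [Nm_apply]
  have h1 : ∀ j, (g ^ j) v = v := by
    intro j
    exact mem_Fx.1 (Fx_pow j (mem_Fx.2 hv))
  simp only [h1, Finset.sum_const, Finset.card_range]
  rw [Nat.cast_smul_eq_nsmul]

/-- powers of a fixed point free element of prime order are fixed point free -/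
theorem fpf_pow (hr : r.Prime) (hz : z ^ r = 1) (hf : ∀ v ∈ U, z v = v → v = 0) {d : ℕ}
    (hd : ¬ r ∣ d) : ∀ v ∈ U, (z ^ d) v = v → v = 0 := by
  intro v hv h
  apply hf v hv
  have hc : Nat.Coprime d r := ((Nat.Prime.coprime_iff_not_dvd hr).2 hd).symm
  obtain ⟨m, hm⟩ := Nat.exists_mul_mod_eq_one_of_coprime hc hr.one_lt
  have h1 : (z ^ d) ^ m = z := by
    rw [← pow_mul]
    have h2 : d * m = r * (d * m / r) + 1 := by
      have := Nat.div_add_mod (d * m) r
      omega
    rw [h2, pow_add, pow_mul, hz, one_pow, one_mul, pow_one]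
  have h2 : v ∈ Fx ((z ^ d) ^ m) := Fx_pow m (mem_Fx.2 h)
  rw [h1] at h2
  exact mem_Fx.1 h2

theorem conj_pow_eq (hu : u * y * u⁻¹ = y * z) (huz : u * z = z * u) (i : ℕ) :
    u ^ i * y * (u ^ i)⁻¹ = y * z ^ i := by
  induction i with
  | zero => simp
  | succ i ih =>
    have h1 : u ^ (i + 1) * y * (u ^ (i + 1))⁻¹ = u * (u ^ i * y * (u ^ i)⁻¹) * u⁻¹ := by
      rw [pow_succ']; group
    have h2 : u * z ^ i * u⁻¹ = z ^ i := by
      have h3 : Commute u z := huz
      have h4 := (h3.pow_right i).eq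
      rw [h4]; group
    rw [h1, ih]
    calc u * (y * z ^ i) * u⁻¹ = (u * y * u⁻¹) * (u * z ^ i * u⁻¹) := by group
      _ = y * z ^ (i + 1) := by rw [hu, h2, mul_assoc, ← pow_succ']

theorem Nm_other (hr : r.Prime) (hyz : Commute y z) (hz : z ^ r = 1)
    (hUz : ∀ v ∈ U, z v ∈ U) (hf : ∀ v ∈ U, z v = v → v = 0) {i j : ℕ} (hi : i < r)
    (hj : j < r) (hij : i ≠ j) {v : V} (hv : v ∈ U) (hvj : (y * z ^ j) v = v) :
    Nm r (y * z ^ i) v = 0 := by
  set d : ℕ := i + (r - j) with hd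
  have h1 : z ^ i = z ^ j * z ^ d := by
    rw [← pow_add]
    have : j + d = i + r := by omega
    rw [this, pow_add, hz, mul_one]
  have hnd : ¬ r ∣ d := by
    rintro ⟨k, hk⟩
    rcases Nat.lt_or_ge i j with h | h
    · have : d < r := by omega
      rcases Nat.eq_zero_or_pos k with h0 | h0
      · subst h0; omega
      · have : r ≤ r * k := Nat.le_mul_of_pos_right r h0
        omega
    · have h3 : r < d := by omega
      have h4 : d < 2 * r := by omega
      have h5 : 1 < k := by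
        by_contra h6
        have h7 : k ≤ 1 := by omega
        have : r * k ≤ r * 1 := Nat.mul_le_mul_left r h7
        omega
      have : r * 2 ≤ r * k := Nat.mul_le_mul_left r h5
      omega
  have h2 : ∀ k : ℕ, ((y * z ^ i) ^ k) v = ((z ^ d) ^ k) v := by
    intro k
    have h3 : y * z ^ i = (y * z ^ j) * z ^ d := by rw [h1, mul_assoc]
    have h4 : Commute (y * z ^ j) (z ^ d) := by
      apply Commute.mul_left
      · exact hyz.pow_right d
      · exact (Commute.refl z).pow_pow j d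
    rw [h3, h4.mul_pow, (h4.pow_pow k k).eq, LinearEquiv.mul_apply]
    rw [mem_Fx.1 (Fx_pow k (mem_Fx.2 hvj))]
  have h5 : Nm r (y * z ^ i) v = Nm r (z ^ d) v := by
    rw [Nm_apply, Nm_apply]
    exact Finset.sum_congr rfl fun k _ => h2 k
  rw [h5]
  refine Nm_eq_zero ?_ (U := U) ?_ (fpf_pow hr hz hf hnd) hv
  · rw [← pow_mul, mul_comm, pow_mul, hz, one_pow]
  · intro w hw
    clear_value d
    clear * - hUz hw
    induction d with
    | zero => simpa using hw
    | succ d ih => rw [pow_succ', LinearEquiv.mul_apply]; exact hUz _ ih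

/-- The dimension of the fixed space of `y`. -/
theorem split_le [FiniteDimensional F V] (hr : r.Prime) (hrF : (r : F) ≠ 0) (hyz : Commute y z)
    (hz : z ^ r = 1) (hu : u * y * u⁻¹ = y * z) (huz : u * z = z * u)
    (hUz : ∀ v ∈ U, z v ∈ U) (hUu : ∀ v ∈ U, u v ∈ U)
    (hf : ∀ v ∈ U, z v = v → v = 0) :
    r * finrank F (U ⊓ Fx y : Submodule F V) ≤ finrank F U := by
  have hmem : ∀ (i : ℕ) (w : (U ⊓ Fx y : Submodule F V)), (u ^ i) (w : V) ∈ U ∧
      (y * z ^ i) ((u ^ i) (w : V)) = (u ^ i) (w : V) := by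
    intro i w
    obtain ⟨w, hwU, hwy⟩ := w
    rw [SetLike.mem_coe, mem_Fx] at hwy
    constructor
    · change (u ^ i) w ∈ U
      induction i with
      | zero => simpa using hwU
      | succ i ih => rw [pow_succ', LinearEquiv.mul_apply]; exact hUu _ ih
    · change (y * z ^ i) ((u ^ i) w) = (u ^ i) w
      rw [← conj_pow_eq hu huz i, ← LinearEquiv.mul_apply, inv_mul_cancel_right,
        LinearEquiv.mul_apply, hwy]
  let Φ : (Fin r → (U ⊓ Fx y : Submodule F V)) →ₗ[F] U :=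
    { toFun := fun w => ⟨∑ i : Fin r, (u ^ (i : ℕ)) (w i : V),
        Submodule.sum_mem _ fun i _ => (hmem i (w i)).1⟩
      map_add' := by
        intro w w'
        apply Subtype.ext
        simp [Finset.sum_add_distrib]
      map_smul' := by
        intro c w
        apply Subtype.ext
        simp [Finset.smul_sum] }
  have hinj : Function.Injective Φ := by
    rw [injective_iff_map_eq_zero]
    intro w hw
    have h0 : (∑ i : Fin r, (u ^ (i : ℕ)) (w i : V)) = 0 := congrArg Subtype.val hw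
    funext i
    have h1 : Nm r (y * z ^ (i : ℕ)) (∑ j : Fin r, (u ^ (j : ℕ)) (w j : V)) = 0 := by
      rw [h0, map_zero]
    rw [map_sum, Finset.sum_eq_single i] at h1
    · rw [Nm_of_fixed (hmem i (w i)).2] at h1
      have h2 : (u ^ (i : ℕ)) (w i : V) = 0 := (smul_eq_zero.1 h1).resolve_left hrF
      have h3 : (w i : V) = 0 := (LinearEquiv.map_eq_zero_iff _).1 h2
      exact Subtype.ext h3
    · intro j _ hji
      exact Nm_other hr hyz hz hUz hf i.2 j.2 (fun h => hji (Fin.ext h.symm)) (hmem j (w j)).1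
        (hmem j (w j)).2
    · intro h
      exact absurd (Finset.mem_univ i) h
  have h := LinearMap.finrank_le_finrank_of_injective hinj
  rw [Module.finrank_pi_fintype, Finset.sum_const, Finset.card_univ, Fintype.card_fin,
    smul_eq_mul] at h
  exact h

/-- `y` has fixed vectors. -/
theorem split_ne (hr : r.Prime) (hrF : (r : F) ≠ 0) (hyz : Commute y z)
    (hy : y ^ r = 1) (hz : z ^ r = 1) (hu : u * y * u⁻¹ = y * z) (huz : u * z = z * u)
    (hUy : ∀ v ∈ U, y v ∈ U) (hUz : ∀ v ∈ U, z v ∈ U) (hUu : ∀ v ∈ U, u⁻¹ v ∈ U)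
    (hf : ∀ v ∈ U, z v = v → v = 0) (hU : U ≠ ⊥) : U ⊓ Fx y ≠ ⊥ := by
  intro hbot
  -- no fixed vectors of `y z ^ i` in `U`
  have hzp : ∀ (d : ℕ), ∀ v ∈ U, (z ^ d) v ∈ U := by
    intro d v hv
    induction d with
    | zero => simpa using hv
    | succ d ih => rw [pow_succ', LinearEquiv.mul_apply]; exact hUz _ ih
  have hyp : ∀ (d : ℕ), ∀ v ∈ U, (y ^ d) v ∈ U := by
    intro d v hv
    induction d with
    | zero => simpa using hv
    | succ d ih => rw [pow_succ', LinearEquiv.mul_apply]; exact hUy _ ih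
  have h1 : ∀ i : ℕ, ∀ v ∈ U, (y * z ^ i) v = v → v = 0 := by
    intro i v hv h
    have h2 : ((u ^ i)⁻¹) v ∈ U := by
      clear h
      induction i with
      | zero => simpa using hv
      | succ i ih =>
        have h3 : (u ^ (i + 1))⁻¹ = u⁻¹ * (u ^ i)⁻¹ := by rw [pow_succ, mul_inv_rev]
        rw [h3, LinearEquiv.mul_apply]
        exact hUu _ ih
    have h3 : y ((u ^ i)⁻¹ v) = (u ^ i)⁻¹ v := by
      rw [← conj_pow_eq hu huz i] at h
      have h4 : (u ^ i)⁻¹ ((u ^ i * y * (u ^ i)⁻¹) v) = (u ^ i)⁻¹ v := by rw [h]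
      rw [← LinearEquiv.mul_apply] at h4
      have h5 : (u ^ i)⁻¹ * (u ^ i * y * (u ^ i)⁻¹) = y * (u ^ i)⁻¹ := by group
      rw [h5] at h4
      exact h4
    have h4 : (u ^ i)⁻¹ v ∈ U ⊓ Fx y := ⟨h2, mem_Fx.2 h3⟩
    rw [hbot, Submodule.mem_bot] at h4
    exact (LinearEquiv.map_eq_zero_iff _).1 h4
  have hpow : ∀ i j : ℕ, (y * z ^ i) ^ j = y ^ j * (z ^ j) ^ i := by
    intro i j
    rw [(hyz.pow_right i).mul_pow, ← pow_mul, ← pow_mul, mul_comm i j]
  have h2 : ∀ i : ℕ, ∀ v ∈ U, Nm r (y * z ^ i) v = 0 := by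
    intro i v hv
    refine Nm_eq_zero (U := U) ?_ ?_ (h1 i) hv
    · rw [hpow, hy, hz, one_pow, one_mul]
    · intro w hw
      rw [LinearEquiv.mul_apply]
      exact hUy _ (hzp i w hw)
  -- sum over `i`
  apply hU
  rw [eq_bot_iff]
  intro v hv
  have h3 : ∑ i ∈ Finset.range r, Nm r (y * z ^ i) v = (r : F) • v := by
    simp only [Nm_apply]
    rw [Finset.sum_comm, Finset.sum_eq_single 0]
    · simp only [pow_zero, LinearEquiv.coe_one, id_eq, Finset.sum_const, Finset.card_range]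
      rw [Nat.cast_smul_eq_nsmul]
    · intro j hj hj0
      have h4 : ∀ i, ((y * z ^ i) ^ j) v = (y ^ j) (((z ^ j) ^ i) v) := by
        intro i
        rw [hpow, LinearEquiv.mul_apply]
      simp only [h4]
      rw [← map_sum, ← Nm_apply]
      have h5 : Nm r (z ^ j) v = 0 := by
        refine Nm_eq_zero (U := U) ?_ (hzp j) (fpf_pow hr hz hf ?_) hv
        · rw [← pow_mul, mul_comm, pow_mul, hz, one_pow]
        · intro hd
          have := Nat.le_of_dvd (Nat.pos_of_ne_zero hj0) hd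
          rw [Finset.mem_range] at hj
          omega
      rw [h5, map_zero]
    · intro h
      exact absurd (Finset.mem_range.2 hr.pos) h
  have h4 : ∑ i ∈ Finset.range r, Nm r (y * z ^ i) v = 0 :=
    Finset.sum_eq_zero fun i _ => h2 i v hv
  rw [h4] at h3
  exact (smul_eq_zero.1 h3.symm).resolve_left hrF

end split

/-! ### The order of `q` modulo `r` -/

/-- the order of `|F|` modulo `r` -/
noncomputable def eo (F : Type*) (r : ℕ) : ℕ := orderOf ((Nat.card F : ℕ) : ZMod r)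

theorem eo_pos [Finite F] {r : ℕ} (hr : r.Prime) (hrF : (r : F) ≠ 0) : 0 < eo F r := by
  have : Fact r.Prime := ⟨hr⟩
  rw [eo, orderOf_pos_iff]
  have h1 : ((Nat.card F : ℕ) : ZMod r) ≠ 0 := by
    intro h
    rw [ZMod.natCast_eq_zero_iff] at h
    have := Fintype.ofFinite F
    rw [Nat.card_eq_fintype_card] at h
    obtain ⟨n, hp, hcard⟩ := FiniteField.card F (ringChar F)
    rw [hcard] at h
    have h2 : r ∣ ringChar F := hr.dvd_of_dvd_pow h
    have h3 : r = ringChar F := (Nat.prime_dvd_prime_iff_eq hr hp).1 h2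
    apply hrF
    rw [h3]
    exact CharP.cast_eq_zero F (ringChar F)
  exact isOfFinOrder_iff_pow_eq_one.2 ⟨r - 1, by have := hr.two_le; omega,
    ZMod.pow_card_sub_one_eq_one h1⟩

/-- an element of order `r` without fixed vectors needs dimension at least `eo F r` -/
theorem eo_le [Finite F] [FiniteDimensional F V] {r : ℕ} (hr : r.Prime) {z : V ≃ₗ[F] V}
    (hz : z ^ r = 1) {U : Submodule F V} (hUz : ∀ v ∈ U, z v ∈ U)
    (hf : ∀ v ∈ U, z v = v → v = 0) (hU : U ≠ ⊥) : eo F r ≤ finrank F U := by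
  have : Fact r.Prime := ⟨hr⟩
  have : Finite V := Module.finite_of_finite F
  have hzp : ∀ (d : ℕ), ∀ v ∈ U, (z ^ d) v ∈ U := by
    intro d v hv
    induction d with
    | zero => simpa using hv
    | succ d ih => rw [pow_succ', LinearEquiv.mul_apply]; exact hUz _ ih
  have hzz : ∀ g ∈ Subgroup.zpowers z, ∀ v ∈ U, g v ∈ U := by
    rintro _ ⟨n, rfl⟩ v hv
    have h1 : IsOfFinOrder z := isOfFinOrder_iff_pow_eq_one.2 ⟨r, hr.pos, hz⟩
    have h2 : z ^ n ∈ Subgroup.zpowers z := ⟨n, rfl⟩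
    rw [← h1.mem_powers_iff_mem_zpowers] at h2
    obtain ⟨m, hm⟩ := h2
    have h3 : z ^ n = z ^ m := hm.symm
    change (z ^ n) v ∈ U
    rw [h3]
    exact hzp m v hv
  let act : MulAction (Subgroup.zpowers z) U :=
    { smul := fun g u => ⟨g.1 u.1, hzz g.1 g.2 u.1 u.2⟩
      one_smul := fun u => rfl
      mul_smul := fun g h u => rfl }
  have hP : IsPGroup r (Subgroup.zpowers z) := by
    intro g
    refine ⟨1, ?_⟩
    obtain ⟨n, hn⟩ := g.2
    apply Subtype.ext
    change g.1 ^ r ^ 1 = 1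
    rw [← hn, pow_one]
    change (z ^ n) ^ r = 1
    rw [← zpow_natCast, ← zpow_mul, mul_comm, zpow_mul, zpow_natCast, hz, one_zpow]
  have h1 := hP.card_modEq_card_fixedPoints U
  have h2 : MulAction.fixedPoints (Subgroup.zpowers z) U = {0} := by
    ext u
    rw [MulAction.mem_fixedPoints, Set.mem_singleton_iff]
    constructor
    · intro h
      have h3 : (⟨z, Subgroup.mem_zpowers z⟩ : Subgroup.zpowers z) • u = u := h _
      exact Subtype.ext (hf u.1 u.2 (congrArg Subtype.val h3))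
    · rintro rfl g
      apply Subtype.ext
      exact map_zero g.1
  have h0 : Nat.card ({0} : Set U) = 1 := Nat.card_unique
  rw [h2, h0, Module.natCard_eq_pow_finrank (K := F) (V := U)] at h1
  have h3 : ((Nat.card F : ℕ) : ZMod r) ^ finrank F U = 1 := by
    have h4 := (ZMod.natCast_eq_natCast_iff _ _ _).2 h1
    push_cast at h4
    exact h4
  have h4 : eo F r ∣ finrank F U := orderOf_dvd_of_pow_eq_one h3
  have h5 : 0 < finrank F U := by
    rw [Nat.pos_iff_ne_zero]
    intro h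
    exact hU (Submodule.finrank_eq_zero.1 h)
  exact Nat.le_of_dvd h5 h4

end Cfsg.Agent.H170.HL
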