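import Cfsg.Agent.H167.OP.Alpha

/-!
# The linear theorem behind `P(z)` (helper170)

`CV ρ D = [V, D]`.
-/

set_option autoImplicit false

namespace Cfsg.Agent.H170.HL

open Module Cfsg.Agent.H167.OP

variable {F : Type*} [Field F] {V : Type*} [AddCommGroup V] [Module F V] {G : Type*} [Group G]

/-- `[V, D]` -/
noncomputable def CV (ρ : Representation F G V) (D : Subgroup G) : Submodule F V :=
  ⨆ d : D, LinearMap.range (ρ d - 1)

theorem range_le_CV (ρ : Representation F G V) {D : Subgroup G} {d : G} (hd : d ∈ D) :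
    LinearMap.range (ρ d - 1) ≤ CV ρ D :=
  le_iSup (fun d : D => LinearMap.range (ρ d - 1)) ⟨d, hd⟩

theorem sub_mem_CV (ρ : Representation F G V) {D : Subgroup G} {d : G} (hd : d ∈ D) (v : V) :
    ρ d v - v ∈ CV ρ D := range_le_CV ρ hd ⟨v, rfl⟩

theorem CV_le {ρ : Representation F G V} {D : Subgroup G} {W : Submodule F V}
    (h : ∀ d ∈ D, LinearMap.range (ρ d - 1) ≤ W) : CV ρ D ≤ W :=
  iSup_le fun d => h d d.2

theorem CV_mono (ρ : Representation F G V) {D L : Subgroup G} (h : D ≤ L) : CV ρ D ≤ CV ρ L :=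
  CV_le fun _ hd => range_le_CV ρ (h hd)

theorem CV_closure_le {ρ : Representation F G V} {S : Set G} {W : Submodule F V}
    (h : ∀ s ∈ S, LinearMap.range (ρ s - 1) ≤ W) : CV ρ (Subgroup.closure S) ≤ W := by
  refine CV_le fun d hd => ?_
  induction hd using Subgroup.closure_induction with
  | mem x hx => exact h x hx
  | one =>
    rw [map_one, sub_self, LinearMap.range_zero]
    exact bot_le
  | mul a b _ _ ha hb =>
    rintro _ ⟨v, rfl⟩
    have h1 : (ρ (a * b) - 1) v = (ρ a - 1) (ρ b v) + (ρ b - 1) v := by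
      show ρ (a * b) v - v = (ρ a (ρ b v) - ρ b v) + (ρ b v - v)
      rw [mul_ap]
      abel
    rw [h1]
    exact W.add_mem (ha ⟨_, rfl⟩) (hb ⟨_, rfl⟩)
  | inv a _ ha =>
    rintro _ ⟨v, rfl⟩
    have h1 : (ρ a⁻¹ - 1) v = -((ρ a - 1) (ρ a⁻¹ v)) := by
      show ρ a⁻¹ v - v = -(ρ a (ρ a⁻¹ v) - ρ a⁻¹ v)
      rw [ap_inv]
      abel
    rw [h1]
    exact W.neg_mem (ha ⟨_, rfl⟩)

theorem rk_conj_le [FiniteDimensional F V] (ρ : Representation F G V) (g z : G) :
    rk ρ (g * z * g⁻¹) ≤ rk ρ z := by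
  have h1 : LinearMap.range (ρ (g * z * g⁻¹) - 1) ≤ (LinearMap.range (ρ z - 1)).map (ρ g) := by
    rintro _ ⟨v, rfl⟩
    refine ⟨(ρ z - 1) (ρ g⁻¹ v), ⟨_, rfl⟩, ?_⟩
    show ρ g (ρ z (ρ g⁻¹ v) - ρ g⁻¹ v) = ρ (g * z * g⁻¹) v - v
    rw [map_sub, ap_inv, mul_ap, mul_ap]
  exact (Submodule.finrank_mono h1).trans (Submodule.finrank_map_le _ _)

theorem finrank_CV_pair [FiniteDimensional F V] (ρ : Representation F G V) (g z : G) :
    finrank F (CV ρ (Subgroup.closure {z, g * z * g⁻¹})) ≤ 2 * rk ρ z := by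
  have h1 : CV ρ (Subgroup.closure {z, g * z * g⁻¹}) ≤
      LinearMap.range (ρ z - 1) ⊔ LinearMap.range (ρ (g * z * g⁻¹) - 1) := by
    refine CV_closure_le ?_
    intro s hs
    rcases hs with rfl | hs
    · exact le_sup_left
    · rw [Set.mem_singleton_iff] at hs
      rw [hs]
      exact le_sup_right
  refine (Submodule.finrank_mono h1).trans ((Submodule.finrank_add_le_finrank_add_finrank _ _).trans ?_)
  have := rk_conj_le ρ g z
  unfold rk at this ⊢
  omega

theorem VE_le_CV [Finite G] (ρ : Representation F G V) {D E : Subgroup G}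
    (hD : (Nat.card D : F) ≠ 0) : VE ρ E D ≤ CV ρ D := by
  classical
  intro w hw
  have : Fintype D := Fintype.ofFinite D
  have h1 : avg ρ D w = 0 := hw.2
  rw [avg_apply] at h1
  have h2 : ∑ e : D, ρ e w = 0 := by
    rcases smul_eq_zero.mp h1 with h3 | h3
    · exact absurd (inv_eq_zero.mp h3) hD
    · exact h3
  have h3 : (Nat.card D : F) • w = -∑ e : D, (ρ e w - w) := by
    rw [Finset.sum_sub_distrib, h2, Finset.sum_const, Finset.card_univ, zero_sub, neg_neg,
      Nat.card_eq_fintype_card, Nat.cast_smul_eq_nsmul]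
  have h4 : (Nat.card D : F) • w ∈ CV ρ D := by
    rw [h3]
    exact Submodule.neg_mem _ (Submodule.sum_mem _ fun e _ => sub_mem_CV ρ e.2 w)
  have h5 := (CV ρ D).smul_mem (Nat.card D : F)⁻¹ h4
  rwa [smul_smul, inv_mul_cancel₀ hD, one_smul] at h5

/-- independent translates inside a subspace -/
theorem mul_finrank_le [FiniteDimensional F V] (ρ : Representation F G V) (y : G)
    (W U : Submodule F V) (m : ℕ) (hU : ∀ i < m, ∀ w ∈ W, ρ (y ^ i) w ∈ U)
    (hW : ∀ w : ℕ → V, (∀ i, w i ∈ W) → ∑ i ∈ Finset.range m, ρ (y ^ i) (w i) = 0 →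
      ∀ i < m, w i = 0) : m * finrank F W ≤ finrank F U := by
  classical
  let φ : (Fin m → W) →ₗ[F] U :=
    { toFun := fun w => ⟨∑ i : Fin m, ρ (y ^ (i : ℕ)) (w i),
        Submodule.sum_mem _ fun i _ => hU i i.2 _ (w i).2⟩
      map_add' := fun a b => Subtype.ext (by
        simp only [Pi.add_apply, Submodule.coe_add, map_add, ← Finset.sum_add_distrib])
      map_smul' := fun c a => Subtype.ext (by
        simp only [Pi.smul_apply, Submodule.coe_smul, map_smul, RingHom.id_apply,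
          Finset.smul_sum]) }
  have hinj : Function.Injective φ := by
    rw [← LinearMap.ker_eq_bot, LinearMap.ker_eq_bot']
    intro w hw
    have h0 : ∑ i : Fin m, ρ (y ^ (i : ℕ)) (w i) = 0 := congrArg Subtype.val hw
    let w' : ℕ → V := fun i => if h : i < m then (w ⟨i, h⟩ : V) else 0
    have hw' : ∀ i, w' i ∈ W := by
      intro i
      by_cases h : i < m
      · simp only [w', h, dif_pos]; exact (w ⟨i, h⟩).2
      · simp only [w', h, dif_neg, not_false_iff]; exact W.zero_mem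
    have h1 : ∑ i ∈ Finset.range m, ρ (y ^ i) (w' i) = 0 := by
      rw [Finset.sum_range, ← h0]
      refine Finset.sum_congr rfl fun i _ => ?_
      simp only [w', i.2, dif_pos]
    have h3 := hW w' hw' h1
    funext i
    apply Subtype.ext
    have := h3 i i.2
    simp only [w', i.2, dif_pos] at this
    exact this
  have h1 := LinearMap.finrank_le_finrank_of_injective hinj
  rw [Module.finrank_pi_fintype, Finset.sum_const, Finset.card_univ, Fintype.card_fin,
    smul_eq_mul] at h1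
  exact h1

variable {s t : ℕ} {y : G} {D : Subgroup G}

/-- **The abelian case**: the translates of `V_E` are independent inside `[V, D]`; here `E` is any
maximal subgroup of `D` not normalised by `y`. -/
theorem mul_finrank_VE_le [Finite G] [FiniteDimensional F V] (ρ : Representation F G V)
    (h : MinD s t y D) (hsF : (s : F) ≠ 0) (hab : ∀ a ∈ D, ∀ b ∈ D, a * b = b * a)
    {E : Subgroup G} (hE : MaxIn E D) (hnE : ¬ Nrm y E) :
    t * finrank F (VE ρ E D) ≤ finrank F (CV ρ D) := by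
  have hcD := card_ne_zero_of_MinD h hsF (le_refl D)
  have hmax : ∀ n : ℕ, MaxIn (cj (y ^ n) E) D := by
    intro n
    refine ⟨fun x hx => ?_, fun x hx hxE => ?_⟩
    · rw [mem_cj] at hx
      exact (cj_self h.nrm n x).mpr (hE.1 hx)
    · rw [mem_cj] at hxE
      have h1 := hE.2 _ ((cj_self h.nrm n x).mp hx) hxE
      intro z hz
      have h2 := h1 ((cj_self h.nrm n z).mp hz)
      have h3 : z ∈ cj (y ^ n) (E ⊔ Subgroup.zpowers ((y ^ n)⁻¹ * x * y ^ n)) := mem_cj.mpr h2
      rw [cj, Subgroup.map_sup, MonoidHom.map_zpowers] at h3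
      have h4 : (MulAut.conj (y ^ n)).toMonoidHom ((y ^ n)⁻¹ * x * y ^ n) = x := by
        show y ^ n * ((y ^ n)⁻¹ * x * y ^ n) * (y ^ n)⁻¹ = x
        group
      rw [h4] at h3
      exact h3
  have hmem : ∀ n : ℕ, ∀ u ∈ VE ρ E D, ρ (y ^ n) u ∈ VE ρ (cj (y ^ n) E) D := by
    intro n u hu
    refine ⟨fun e he => ?_, ?_⟩
    · rw [mem_cj] at he
      have h1 := hu.1 _ he
      have h2 : e * y ^ n = y ^ n * ((y ^ n)⁻¹ * e * y ^ n) := by group
      rw [← mul_ap, h2, mul_ap, h1]
    · rw [← avg_conj ρ D (y ^ n) (cj_self h.nrm n), hu.2, map_zero]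
  refine mul_finrank_le ρ y _ _ t (fun i _ w hw => VE_le_CV ρ hcD (hmem i w hw)) ?_
  intro w hw hsum
  have hdist : ∀ i j : ℕ, i < j → j < t → cj (y ^ i) E ≠ cj (y ^ j) E := by
    intro i j hij hj heq
    obtain ⟨a, ha⟩ := h.hy
    have h1 : Nrm (y ^ (j - i)) E := by
      intro d hd
      have h2 : y ^ j * d * (y ^ j)⁻¹ ∈ cj (y ^ j) E := by
        rw [mem_cj]
        convert hd using 1
        group
      rw [← heq, mem_cj] at h2
      convert h2 using 1
      have h3 : y ^ j = y ^ i * y ^ (j - i) := by rw [← pow_add]; congr 1; omega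
      rw [h3]
      group
    refine hnE (nrm_of_pow h.ht ha ?_ h1)
    intro hdv
    have := Nat.le_of_dvd (by omega) hdv
    omega
  have hdist' : ∀ i j : ℕ, i ≠ j → i < t → j < t → cj (y ^ i) E ≠ cj (y ^ j) E := by
    intro i j hij hi hj
    rcases lt_or_gt_of_ne hij with h1 | h1
    · exact hdist i j h1 hj
    · exact (hdist j i h1 hi).symm
  intro j hj
  have h1 := congrArg (avg ρ (cj (y ^ j) E)) hsum
  rw [map_sum, map_zero, Finset.sum_eq_single_of_mem j (Finset.mem_range.mpr (by omega))] at h1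
  · have h2 := hmem j _ (hw j)
    rw [avg_fixed ρ _ (card_ne_zero_of_MinD h hsF (hmax j).1) h2.1] at h1
    rw [← inv_ap ρ (y ^ j) (w j), h1, map_zero]
  · intro i hi hij
    rw [Finset.mem_range] at hi
    exact VE_avg_zero ρ hcD hab (hmax j) (hmax i) (hdist' j i (Ne.symm hij) (by omega) hi)
      (hmem i _ (hw i))

/-- the abelian case for `s < t` -/
theorem alpha2 [Finite G] [FiniteDimensional F V] (ρ : Representation F G V) (h : MinD s t y D)
    (hst : s < t) (hsF : (s : F) ≠ 0) (hab : ∀ a ∈ D, ∀ b ∈ D, a * b = b * a)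
    (hρ : ∃ d ∈ D, ρ d ≠ 1) :
    ∃ E : Subgroup G, MaxIn E D ∧ E ≠ D ∧ VE ρ E D ≠ ⊥ ∧
      t * finrank F (VE ρ E D) ≤ finrank F (CV ρ D) := by
  have hcD := card_ne_zero_of_MinD h hsF (le_refl D)
  obtain ⟨E, hE, hne, hV⟩ := exists_VE ρ h.hs hsF hcD hab (fun a ha => h.pow_eq_one hab ha) hρ
  exact ⟨E, hE, hne, hV, mul_finrank_VE_le ρ h hsF hab hE (fun hn => h.not_nrm_max hst hab hE hne hn)⟩

end Cfsg.Agent.H170.HL
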