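import Cfsg.Agent.H167.OP.MinD
import Cfsg.Agent.Lib.Cores
import Cfsg.Agent.S0044

/-!
# Solvable groups generated by `t`-elements which act trivially on `t'`-subgroups (helper170)
-/

set_option autoImplicit false

namespace Cfsg.Agent.H170.HL

open Subgroup Cfsg Cfsg.Agent.H167.OP

/-- every `t`-element centralises every `r`-subgroup, `r ≠ t`, which it normalises -/
def CenH (t : ℕ) (L : Type*) [Group L] : Prop :=
  ∀ y : L, (∃ k : ℕ, y ^ t ^ k = 1) → ∀ r : ℕ, r.Prime → r ≠ t → ∀ R : Subgroup L, IsPGroup r R →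
    Nrm y R → Cen y R

/-- the property passes to the quotient by a normal `t`-subgroup -/
theorem CenH.quotient {t : ℕ} [ht : Fact t.Prime] {L : Type*} [Group L] [Finite L] (h : CenH t L)
    (P : Subgroup L) [hPn : P.Normal] (hP : IsPGroup t P) : CenH t (L ⧸ P) := by
  classical
  intro yb hyb r hr hrt Rb hRb hnb
  have hrf : Fact r.Prime := ⟨hr⟩
  let π : L →* L ⧸ P := QuotientGroup.mk' P
  have hπs : Function.Surjective π := QuotientGroup.mk'_surjective P
  obtain ⟨y0, hy0⟩ := hπs yb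
  -- every preimage of a `t`-element is a `t`-element
  have hlift : ∀ x : L, π x = yb → ∃ k : ℕ, x ^ t ^ k = 1 := by
    intro x hx
    obtain ⟨k, hk⟩ := hyb
    have h1 : x ^ t ^ k ∈ P := by
      have : π (x ^ t ^ k) = 1 := by rw [map_pow, hx, hk]
      rwa [QuotientGroup.mk'_apply, QuotientGroup.eq_one_iff] at this
    obtain ⟨m, hm⟩ := hP ⟨_, h1⟩
    refine ⟨k + m, ?_⟩
    rw [pow_add, pow_mul]
    exact congrArg Subtype.val hm
  let M : Subgroup L := Rb.comap π
  have hPM : P ≤ M := by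
    intro x hx
    show π x ∈ Rb
    have : π x = 1 := (QuotientGroup.eq_one_iff x).mpr hx
    rw [this]
    exact Rb.one_mem
  let S : Sylow r M := default
  let R : Subgroup L := (S : Subgroup M).map M.subtype
  have hRM : R ≤ M := Subgroup.map_subtype_le _
  have hRr : IsPGroup r R := S.isPGroup'.map _
  -- `M = P R`
  have hcop : Nat.Coprime (Nat.card P) r := by
    obtain ⟨n, hn⟩ := IsPGroup.iff_card.mp hP
    rw [hn]
    exact Nat.Coprime.pow_left _ ((Nat.coprime_primes ht.out hr).mpr (Ne.symm hrt))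
  have hmap : R.map π = Rb := by
    have h1 : R.map π ≤ Rb := by
      rintro _ ⟨x, hx, rfl⟩
      exact hRM hx
    have h2 : R.map π = (S : Subgroup M).map (π.comp M.subtype) := by
      rw [← Subgroup.map_map]
    -- the index of the image is prime to `r` and a power of `r`
    let ψ : M →* Rb := (π.comp M.subtype).codRestrict Rb (fun x => x.2)
    have hψ : Function.Surjective ψ := by
      rintro ⟨x, hx⟩
      obtain ⟨m, rfl⟩ := hπs x
      exact ⟨⟨m, hx⟩, rfl⟩
    have h3 : (S : Subgroup M).map ψ = ⊤ := by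
      have h4 := (S.mapSurjective hψ)
      have h5 : ((S.mapSurjective hψ : Sylow r Rb) : Subgroup Rb) = ⊤ := by
        have h6 : IsPGroup r (⊤ : Subgroup Rb) := hRb.of_equiv Subgroup.topEquiv.symm
        exact ((S.mapSurjective hψ).is_maximal' h6 le_top).symm
      rw [← h5]
      rfl
    apply le_antisymm h1
    intro x hx
    have h4 : (⟨x, hx⟩ : Rb) ∈ (S : Subgroup M).map ψ := by rw [h3]; trivial
    obtain ⟨m, hm, hmx⟩ := h4
    refine ⟨m, ⟨m, hm, rfl⟩, ?_⟩
    exact congrArg Subtype.val hmx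
  -- `y0` normalises `M`
  have hy0M : ∀ m ∈ M, y0 * m * y0⁻¹ ∈ M := by
    intro m hm
    show π (y0 * m * y0⁻¹) ∈ Rb
    rw [map_mul, map_mul, map_inv, hy0]
    exact hnb _ hm
  have hy0M' : ∀ m : L, y0 * m * y0⁻¹ ∈ M → m ∈ M := by
    intro m hm
    have hsub : M.map (MulAut.conj y0).toMonoidHom ≤ M := by
      rintro _ ⟨x, hx, rfl⟩
      exact hy0M x hx
    have hcard : Nat.card (M.map (MulAut.conj y0).toMonoidHom) = Nat.card M :=
      Nat.card_congr (M.equivMapOfInjective _ (MulAut.conj y0).injective).toEquiv.symm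
    have heq : M.map (MulAut.conj y0).toMonoidHom = M :=
      Subgroup.eq_of_le_of_card_ge hsub hcard.ge
    rw [← heq] at hm
    obtain ⟨x, hx, hxe⟩ := hm
    have : x = m := by
      have h1 : y0 * x * y0⁻¹ = y0 * m * y0⁻¹ := hxe
      exact mul_left_cancel (mul_right_cancel h1)
    rwa [← this]
  -- the conjugate of `R` by `y0` is another Sylow subgroup of `M`
  let α : MulAut M :=
    { toFun := fun m => ⟨y0 * m * y0⁻¹, hy0M m m.2⟩
      invFun := fun m => ⟨y0⁻¹ * m * y0, hy0M' _ (by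
        have : y0 * (y0⁻¹ * (m : L) * y0) * y0⁻¹ = m := by group
        rw [this]
        exact m.2)⟩
      left_inv := fun m => Subtype.ext (by
        show y0⁻¹ * (y0 * m * y0⁻¹) * y0 = m
        group)
      right_inv := fun m => Subtype.ext (by
        show y0 * (y0⁻¹ * m * y0) * y0⁻¹ = m
        group)
      map_mul' := fun a b => Subtype.ext (by
        show y0 * (a * b) * y0⁻¹ = (y0 * a * y0⁻¹) * (y0 * b * y0⁻¹)
        group) }
  obtain ⟨m, hm⟩ := MulAction.exists_smul_eq M S (α • S)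
  -- write `m = p ρ`
  obtain ⟨ρ0, hρ0, hρe⟩ : ∃ ρ0 ∈ R, π ρ0 = π (m : L) := by
    have : π (m : L) ∈ R.map π := by rw [hmap]; exact m.2
    obtain ⟨x, hx, hxe⟩ := this
    exact ⟨x, hx, hxe⟩
  obtain ⟨σ0, hσ0, hσe⟩ := hρ0
  -- the new element
  set y1 : L := (m : L)⁻¹ * y0 with hy1
  set y2 : L := ρ0 * y1 with hy2
  have hy2π : π y2 = yb := by
    rw [hy2, hy1, map_mul, map_mul, map_inv, hρe, mul_inv_cancel_left, hy0]
  have hn1 : Nrm y1 R := by
    rintro x ⟨s, hs, rfl⟩
    have h1 : α s ∈ (m • S : Sylow r M) := by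
      rw [hm]
      exact ⟨s, hs, rfl⟩
    obtain ⟨s', hs', hse⟩ := h1
    refine ⟨s', hs', ?_⟩
    have h2 : (m : L) * s' * (m : L)⁻¹ = y0 * s * y0⁻¹ := congrArg Subtype.val hse
    show (s' : L) = y1 * s * y1⁻¹
    calc (s' : L) = (m : L)⁻¹ * ((m : L) * s' * (m : L)⁻¹) * m := by group
      _ = (m : L)⁻¹ * (y0 * s * y0⁻¹) * m := by rw [h2]
      _ = y1 * s * y1⁻¹ := by rw [hy1]; group
  have hρR : ρ0 ∈ R := ⟨σ0, hσ0, hσe⟩
  have hn2 : Nrm y2 R := by
    intro x hx
    have h1 : y2 * x * y2⁻¹ = ρ0 * (y1 * x * y1⁻¹) * ρ0⁻¹ := by rw [hy2]; group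
    rw [h1]
    exact R.mul_mem (R.mul_mem hρR (hn1 x hx)) (R.inv_mem hρR)
  have hc := h y2 (hlift y2 hy2π) r hr hrt R hRr hn2
  intro d hd
  rw [← hmap] at hd
  obtain ⟨x, hx, rfl⟩ := hd
  rw [← hy2π, ← map_mul, hc x hx, map_mul]

/-- **The lemma**: a solvable group generated by `t`-elements acting trivially on `t'`-subgroups is
a `t`-group. -/
theorem isPGroup_of_cenH {t : ℕ} [ht : Fact t.Prime] {L : Type*} [Group L] [Finite L]
    (hsol : Group.IsSolvable L) (h : CenH t L)
    (hgen : Subgroup.closure {x : L | ∃ k : ℕ, x ^ t ^ k = 1} = ⊤) : IsPGroup t L := by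
  classical
  -- the quotient by the core
  let P : Subgroup L := pCore t L
  have hPn : P.Normal := Cfsg.Agent.Lib.Cores.pCore_normal t
  have hP : IsPGroup t P := Cfsg.Agent.Lib.Cores.pCore_isPGroup t
  have hq := h.quotient P hP
  have hcore : pCore t (L ⧸ P) = ⊥ := Cfsg.Agent.Lib.Cores.pCore_quotient_pCore t
  have hsolQ : Group.IsSolvable (L ⧸ P) := inferInstance
  -- `t`-elements centralise the Fitting subgroup
  have h1 : ∀ y : L ⧸ P, (∃ k : ℕ, y ^ t ^ k = 1) → y ∈ fittingSubgroup (L ⧸ P) := by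
    intro y hy
    refine Cfsg.Agent.S0044.result ?_
    have h2 : fittingSubgroup (L ⧸ P) ≤ centralizer ({y} : Set (L ⧸ P)) := by
      rw [Cfsg.Agent.Lib.Cores.fittingSubgroup_eq_iSup_pCore]
      refine iSup_le fun r => ?_
      by_cases hr : (r : ℕ) = t
      · rw [hr, hcore]
        exact bot_le
      · intro x hx
        rw [mem_centralizer_singleton_iff]
        have hn : (pCore (r : ℕ) (L ⧸ P)).Normal := Cfsg.Agent.Lib.Cores.pCore_normal _
        exact (hq y hy r r.2 hr (pCore (r : ℕ) (L ⧸ P)) (Cfsg.Agent.Lib.Cores.pCore_isPGroup _)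
          (fun d hd => hn.conj_mem d hd y) x hx).symm
    rw [mem_centralizer_iff]
    intro x hx
    exact mem_centralizer_singleton_iff.mp (h2 hx)
  -- the Fitting subgroup is a nilpotent `t'`-group
  have h2 : ∀ y : L ⧸ P, (∃ k : ℕ, y ^ t ^ k = 1) → y = 1 := by
    intro y hy
    have hF := h1 y hy
    have hnil : Group.IsNilpotent (fittingSubgroup (L ⧸ P)) :=
      Cfsg.Agent.Lib.Cores.fittingSubgroup_isNilpotent
    have hFn : (fittingSubgroup (L ⧸ P)).Normal := Cfsg.Agent.Lib.Cores.fittingSubgroup_normal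
    -- `O_t(F) = 1`
    have h3 : (pCore t (fittingSubgroup (L ⧸ P))).map (fittingSubgroup (L ⧸ P)).subtype = ⊥ := by
      rw [Cfsg.Agent.Lib.Cores.map_subtype_pCore t hFn, hcore, inf_bot_eq]
    have h4 : pCore t (fittingSubgroup (L ⧸ P)) = ⊥ := by
      rw [Subgroup.map_eq_bot_iff, Subgroup.ker_subtype, le_bot_iff] at h3
      exact h3
    obtain ⟨k, hk⟩ := hy
    have h6 : IsPGroup t (zpowers (⟨y, hF⟩ : fittingSubgroup (L ⧸ P))) := by
      refine IsPGroup.of_card_dvd_pow (n := k) ?_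
      rw [Nat.card_zpowers]
      exact orderOf_dvd_of_pow_eq_one (Subtype.ext hk)
    obtain ⟨T', hT'⟩ := h6.exists_le_sylow
    have h7 : (T' : Subgroup (fittingSubgroup (L ⧸ P))) = ⊥ := by
      have hTn : (T' : Subgroup (fittingSubgroup (L ⧸ P))).Normal :=
        ((Group.isNilpotent_of_finite_tfae (G := fittingSubgroup (L ⧸ P))).out 0 3 rfl rfl).mp hnil t inferInstance T'
      rw [eq_bot_iff, ← h4]
      exact Cfsg.Agent.Lib.Cores.le_pCore hTn T'.isPGroup'
    rw [h7] at hT'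
    have h8 := hT' (mem_zpowers _)
    rw [mem_bot] at h8
    exact congrArg Subtype.val h8
  -- hence the quotient is trivial
  have h3 : P = ⊤ := by
    rw [eq_top_iff, ← hgen, closure_le]
    rintro x ⟨k, hk⟩
    have h4 := h2 (QuotientGroup.mk' P x) ⟨k, by rw [← map_pow, hk, map_one]⟩
    rwa [QuotientGroup.mk'_apply, QuotientGroup.eq_one_iff] at h4
  exact (Cfsg.Agent.Lib.Cores.pCore_eq_top_iff t).mp h3

end Cfsg.Agent.H170.HL
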