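import Cfsg.Agent.H170.HL.PZ
import Cfsg.Agent.H170.HL.TGroup

/-!
# `P(z)` in a linear group modulo a central subgroup (helper170)
-/

set_option autoImplicit false

namespace Cfsg.Agent.H170.HL

open Module Cfsg.Agent.H167.OP

variable {F : Type*} [Field F] {V : Type*} [AddCommGroup V] [Module F V] {K : Type*} [Group K]
  {G : Type*} [Group G]

/-- the bound for nonabelian `D` (Lemma beta of helper167) -/
def BetaP (ρ : Representation F K V) (t : ℕ) : Prop :=
  ∀ (s : ℕ) (y : K) (D : Subgroup K), Odd s → MinD s t y D → (s : F) ≠ 0 →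
    (∃ a ∈ D, ∃ b ∈ D, a * b ≠ b * a) → 2 * t - 1 ≤ finrank F (CV ρ D)

/-- the condition on abelian subgroups: `dim V_E ≥ 2` -/
def TwoP [Finite K] (ρ : Representation F K V) (L : Subgroup K) : Prop :=
  ∀ (r : ℕ), r.Prime → Odd r → (r : F) ≠ 0 → ∀ D E : Subgroup K, D ≤ L → E ≤ D →
    (∀ a ∈ D, ∀ b ∈ D, a * b = b * a) → (∀ a ∈ D, a ^ r = 1) → VE ρ E D ≠ ⊥ →
    2 ≤ finrank F (VE ρ E D)

/-- `t`-elements of `L` centralise the `r`-subgroups which they normalise -/
theorem cenH_sub [Finite K] [FiniteDimensional F V] (ρ : Representation F K V)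
    (hρ : Function.Injective ρ) {t : ℕ} (ht : t.Prime) (L : Subgroup K)
    (hb : finrank F (CV ρ L) ≤ 2 * (t - 1)) (f : K →* G) (hker : ∀ k, f k = 1 → ∀ x, k * x = x * k)
    (hr : ∀ r : ℕ, r.Prime → r ≠ t → r ∣ Nat.card (L.map f) → r < t ∧ Odd r ∧ (r : F) ≠ 0)
    (hbeta : BetaP ρ t) (htwo : TwoP ρ L) : CenH t L := by
  classical
  intro y hy r hrp hrt R hR hn
  by_cases hd : r ∣ Nat.card (L.map f)
  · obtain ⟨hlt, hodd, hrF⟩ := hr r hrp hrt hd
    by_contra hc
    have hrf : Fact r.Prime := ⟨hrp⟩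
    let B : Subgroup K := R.map L.subtype
    have hB : ∀ d ∈ B, ∃ k : ℕ, d ^ r ^ k = 1 := by
      rintro _ ⟨x, hx, rfl⟩
      obtain ⟨k, hk⟩ := hR ⟨x, hx⟩
      exact ⟨k, congrArg (fun z : R => ((z : L) : K)) hk⟩
    have hy' : ∃ k : ℕ, (y : K) ^ t ^ k = 1 := by
      obtain ⟨k, hk⟩ := hy
      exact ⟨k, congrArg Subtype.val hk⟩
    have hn' : Nrm (y : K) B := by
      rintro _ ⟨x, hx, rfl⟩
      exact ⟨_, hn x hx, rfl⟩
    have hc' : ¬ Cen (y : K) B := by
      intro h
      apply hc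
      intro d hd
      exact Subtype.ext (h d ⟨d, hd, rfl⟩)
    obtain ⟨D, hDB, hD⟩ := exists_minD hrp ht hrt hB hy' hn' hc'
    have hDL : D ≤ L := hDB.trans (Subgroup.map_subtype_le _)
    have hDb : finrank F (CV ρ D) ≤ 2 * (t - 1) :=
      (Submodule.finrank_mono (CV_mono ρ hDL)).trans hb
    have ht2 := ht.two_le
    by_cases hab : ∀ a ∈ D, ∀ b ∈ D, a * b = b * a
    · have hne : ∃ d ∈ D, ρ d ≠ 1 := by
        by_contra hcon
        push Not at hcon
        apply hD.ncen
        intro d hd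
        have : d = 1 := hρ (by rw [hcon d hd, map_one])
        rw [this, mul_one, one_mul]
      obtain ⟨E, hE, hED, hV, hle⟩ := alpha2 ρ hD hlt hrF hab hne
      have h2 := htwo r hrp hodd hrF D E hDL hE.1 hab (fun a ha => hD.pow_eq_one hab ha) hV
      have h3 : t * 2 ≤ t * finrank F (VE ρ E D) := Nat.mul_le_mul_left t h2
      omega
    · push Not at hab
      have := hbeta r (y : K) D hodd hD hrF hab
      omega
  · -- `R` is central
    intro d hdR
    have hfd : f (d : K) = 1 := by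
      obtain ⟨k, hk⟩ := hR ⟨d, hdR⟩
      have h1 : (d : K) ^ r ^ k = 1 := congrArg (fun z : R => ((z : L) : K)) hk
      have h2 : f (d : K) ^ r ^ k = 1 := by rw [← map_pow, h1, map_one]
      have h3 : orderOf (f (d : K)) ∣ r ^ k := orderOf_dvd_of_pow_eq_one h2
      have h4 : orderOf (f (d : K)) ∣ Nat.card (L.map f) :=
        Subgroup.orderOf_dvd_natCard _ ⟨d, d.2, rfl⟩
      have h5 : Nat.Coprime (r ^ k) (Nat.card (L.map f)) :=
        Nat.Coprime.pow_left _ ((Nat.Prime.coprime_iff_not_dvd hrp).mpr hd)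
      have h6 : orderOf (f (d : K)) ∣ 1 := by
        rw [← h5]
        exact Nat.dvd_gcd h3 h4
      exact orderOf_eq_one_iff.mp (Nat.dvd_one.mp h6)
    exact Subtype.ext (hker _ hfd _).symm

/-- **the pair generated by conjugates of `z`** -/
theorem isPGroup_pair [Finite K] [FiniteDimensional F V] (ρ : Representation F K V)
    (hρ : Function.Injective ρ) {t : ℕ} (ht : t.Prime) (z g : K) (hz : z ^ t = 1)
    (hb : rk ρ z ≤ t - 1) (f : K →* G) (hker : ∀ k, f k = 1 → ∀ x, k * x = x * k)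
    (hr : ∀ r : ℕ, r.Prime → r ≠ t →
      r ∣ Nat.card ((Subgroup.closure {z, g * z * g⁻¹}).map f) → r < t ∧ Odd r ∧ (r : F) ≠ 0)
    (hsol : Group.IsSolvable ((Subgroup.closure {z, g * z * g⁻¹}).map f))
    (hbeta : BetaP ρ t) (htwo : TwoP ρ (Subgroup.closure {z, g * z * g⁻¹})) :
    IsPGroup t ((Subgroup.closure {z, g * z * g⁻¹}).map f) := by
  classical
  have htf : Fact t.Prime := ⟨ht⟩
  set L : Subgroup K := Subgroup.closure {z, g * z * g⁻¹} with hL
  have hC : CenH t L := by
    refine cenH_sub ρ hρ ht L ?_ f hker hr hbeta htwo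
    refine (finrank_CV_pair ρ g z).trans ?_
    omega
  -- solvability
  have hsolL : Group.IsSolvable L := by
    let φ : L →* L.map f := (f.comp L.subtype).codRestrict (L.map f) (fun x => ⟨x, x.2, rfl⟩)
    have h1 : φ.ker ≤ Subgroup.center L := by
      intro x hx
      rw [Subgroup.mem_center_iff]
      intro w
      have h2 : f (x : K) = 1 := congrArg Subtype.val (MonoidHom.mem_ker.mp hx)
      exact Subtype.ext (hker _ h2 _).symm
    have h2 : Group.IsSolvable φ.ker := by
      have : ∀ a b : φ.ker, a * b = b * a := by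
        intro a b
        have := Subgroup.mem_center_iff.mp (h1 a.2) b
        exact Subtype.ext this.symm
      exact Group.isSolvable_of_comm this
    exact Group.isSolvable_of_ker_le_range (G' := φ.ker) φ.ker.subtype φ (by rw [Subgroup.range_subtype])
  have hgen : Subgroup.closure {x : L | ∃ k : ℕ, x ^ t ^ k = 1} = ⊤ := by
    rw [eq_top_iff, ← Subgroup.closure_closure_coe_preimage (k := ({z, g * z * g⁻¹} : Set K))]
    apply Subgroup.closure_mono
    rintro ⟨x, hx⟩ hxm
    refine ⟨1, Subtype.ext ?_⟩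
    rw [pow_one]
    show x ^ t = 1
    rcases hxm with h | h
    · have h' : x = z := h
      rw [h', hz]
    · have h' : x = g * z * g⁻¹ := h
      rw [h', conj_pow, hz, mul_one, mul_inv_cancel]
  exact (isPGroup_of_cenH hsolL hC hgen).map f

end Cfsg.Agent.H170.HL
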