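import Mathlib

/-!
# Isometries of small support (helper170)

Let `f` be a nondegenerate reflexive form on a finite space and `y` an isometry of prime order `t`
(`t` odd, not the characteristic).  Then there is an isometry `z` of order `t` with
`dim [V, z] ≤ t - 1`, which agrees with `y` on a nondegenerate subspace and is trivial on its
orthogonal space.
-/

set_option autoImplicit false

namespace Cfsg.Agent.H170.HL

open Module Polynomial

variable {F : Type*} [Field F] {V : Type*} [AddCommGroup V] [Module F V] {σ : F →+* F}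

theorem pow_add_apply (y : End F V) (i j : ℕ) (v : V) : (y ^ (i + j)) v = (y ^ i) ((y ^ j) v) := by
  rw [pow_add]; rfl

theorem pow_one_apply' (y : End F V) (i : ℕ) (v : V) : (y ^ (i + 1)) v = y ((y ^ i) v) := by
  rw [pow_succ']; rfl

/-- invariance of `f` under the powers -/
theorem iso_pow (f : V →ₗ[F] V →ₛₗ[σ] F) {y : End F V} (hiso : ∀ u v, f (y u) (y v) = f u v)
    (n : ℕ) (u v : V) : f ((y ^ n) u) ((y ^ n) v) = f u v := by
  induction n with
  | zero => rfl
  | succ n ih => rw [pow_one_apply', pow_one_apply', hiso, ih]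

theorem pow_mod_apply {y : End F V} {t : ℕ} (hy : y ^ t = 1) (n : ℕ) : y ^ n = y ^ (n % t) := by
  conv_lhs => rw [← Nat.div_add_mod n t, pow_add, pow_mul, hy, one_pow, one_mul]

/-- the sum over the cyclic group kills the commutator space -/
theorem sum_pow_eq_zero {y : End F V} {t : ℕ} (hy : y ^ t = 1) {v : V}
    (hv : v ∈ LinearMap.range (y - 1)) : ∑ i ∈ Finset.range t, (y ^ i) v = 0 := by
  obtain ⟨w, rfl⟩ := hv
  have h1 : ∀ i ∈ Finset.range t, (y ^ i) ((y - 1) w) = (y ^ (i + 1)) w - (y ^ i) w := by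
    intro i _
    rw [pow_succ, Module.End.mul_apply, ← map_sub]
    rfl
  rw [Finset.sum_congr rfl h1, Finset.sum_range_sub (fun i => (y ^ i) w), hy, pow_zero, sub_self]

/-- the cyclic submodule -/
def Cyc (y : End F V) (t : ℕ) (v : V) : Submodule F V :=
  Submodule.span F (Set.range fun i : Fin (t - 1) => (y ^ (i : ℕ)) v)

theorem pow_mem_Cyc {y : End F V} {t : ℕ} (ht : 0 < t) (hy : y ^ t = 1) {v : V}
    (hv : v ∈ LinearMap.range (y - 1)) (n : ℕ) : (y ^ n) v ∈ Cyc y t v := by
  have h0 : ∀ i : ℕ, i < t - 1 → (y ^ i) v ∈ Cyc y t v := by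
    intro i hi
    exact Submodule.subset_span ⟨⟨i, hi⟩, rfl⟩
  rw [pow_mod_apply hy n]
  have h1 := Nat.mod_lt n ht
  rcases Nat.lt_or_ge (n % t) (t - 1) with h2 | h2
  · exact h0 _ h2
  · have h3 : n % t = t - 1 := by omega
    rw [h3]
    have h4 := sum_pow_eq_zero hy hv
    obtain ⟨m, rfl⟩ : ∃ m, t = m + 1 := ⟨t - 1, by omega⟩
    rw [Finset.sum_range_succ] at h4
    rw [Nat.add_sub_cancel] at *
    rw [← eq_neg_iff_add_eq_zero, eq_comm, neg_eq_iff_eq_neg] at h4
    rw [h4]
    exact Submodule.neg_mem _ (Submodule.sum_mem _ fun i hi => h0 i (Finset.mem_range.mp hi))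

theorem Cyc_inv {y : End F V} {t : ℕ} (ht : 0 < t) (hy : y ^ t = 1) {v : V}
    (hv : v ∈ LinearMap.range (y - 1)) {u : V} (hu : u ∈ Cyc y t v) : y u ∈ Cyc y t v := by
  have h1 : Cyc y t v ≤ (Cyc y t v).comap y := by
    conv_lhs => rw [Cyc]
    rw [Submodule.span_le]
    rintro _ ⟨i, rfl⟩
    show y ((y ^ (i : ℕ)) v) ∈ Cyc y t v
    rw [← pow_one_apply']
    exact pow_mem_Cyc ht hy hv _
  exact h1 hu

theorem finrank_Cyc (y : End F V) (t : ℕ) (v : V) : finrank F (Cyc y t v) ≤ t - 1 := by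
  have := finrank_range_le_card (R := F) (fun i : Fin (t - 1) => (y ^ (i : ℕ)) v)
  rwa [Fintype.card_fin] at this

/-- an endomorphism of finite order prime to the characteristic has invariant complements -/
theorem exists_compl [FiniteDimensional F V] {y : End F V} {t : ℕ} (htF : (t : F) ≠ 0)
    (hy : y ^ t = 1) (p : Submodule F V) (hp : ∀ u ∈ p, y u ∈ p) :
    ∃ q : Submodule F V, (∀ u ∈ q, y u ∈ q) ∧ IsCompl p q := by
  have h1 : y.IsSemisimple := by
    refine Module.End.isSemisimple_of_squarefree_aeval_eq_zero (p := X ^ t - 1)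
      ((X_pow_sub_one_separable_iff.mpr htF).squarefree) ?_
    rw [map_sub, map_pow, aeval_X, map_one, hy, sub_self]
  rw [Module.End.isSemisimple_iff] at h1
  obtain ⟨q, hq, hc⟩ := h1 p (fun u hu => hp u hu)
  exact ⟨q, fun u hu => hq hu, hc⟩

/-- the right orthogonal space -/
def Orth (f : V →ₗ[F] V →ₛₗ[σ] F) (U : Submodule F V) : Submodule F V where
  carrier := {w | ∀ u ∈ U, f u w = 0}
  zero_mem' := fun u _ => map_zero _
  add_mem' := fun {a b} ha hb u hu => by rw [map_add, ha u hu, hb u hu, add_zero]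
  smul_mem' := fun c a ha u hu => by rw [LinearMap.map_smulₛₗ, ha u hu, smul_zero]

theorem mem_Orth {f : V →ₗ[F] V →ₛₗ[σ] F} {U : Submodule F V} {w : V} :
    w ∈ Orth f U ↔ ∀ u ∈ U, f u w = 0 := Iff.rfl

/-- a nondegenerate subspace splits off -/
theorem isCompl_Orth [Finite V] [Finite F] (f : V →ₗ[F] V →ₛₗ[σ] F) (U : Submodule F V)
    (hU : ∀ u ∈ U, (∀ x ∈ U, f x u = 0) → u = 0) : IsCompl U (Orth f U) := by
  classical
  refine ⟨?_, ?_⟩
  · rw [Submodule.disjoint_def]
    intro x hx hx'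
    exact hU x hx hx'
  · rw [codisjoint_iff, eq_top_iff]
    rintro v -
    let φ : U → Dual F U := fun u =>
      { toFun := fun x => f x u
        map_add' := fun a b => by simp
        map_smul' := fun c a => by simp }
    have hinj : Function.Injective φ := by
      intro a b hab
      have h1 : ((a - b : U) : V) = 0 := by
        refine hU _ (a - b).2 ?_
        intro x hx
        have h2 := LinearMap.congr_fun hab ⟨x, hx⟩
        have h3 : f x a = f x b := h2
        rw [Submodule.coe_sub, map_sub, h3, sub_self]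
      have h2 : a - b = 0 := Subtype.ext h1
      exact sub_eq_zero.mp h2
    have hfd : FiniteDimensional F U := inferInstance
    let e : U ≃ₗ[F] Dual F U := LinearEquiv.ofFinrankEq _ _ Subspace.dual_finrank_eq.symm
    have hfin : Finite (Dual F U) := Finite.of_equiv _ e.toEquiv
    have hsurj : Function.Surjective φ := by
      have h1 : Function.Injective (e.symm ∘ φ) := e.symm.injective.comp hinj
      have h2 := Finite.surjective_of_injective h1
      intro g
      obtain ⟨u, hu⟩ := h2 (e.symm g)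
      exact ⟨u, e.symm.injective hu⟩
    let g : Dual F U :=
      { toFun := fun x => f x v
        map_add' := fun a b => by simp
        map_smul' := fun c a => by simp }
    obtain ⟨u, hu⟩ := hsurj g
    rw [Submodule.mem_sup]
    refine ⟨u, u.2, v - u, ?_, by abel⟩
    intro x hx
    have h1 : f x u = f x v := LinearMap.congr_fun hu ⟨x, hx⟩
    rw [map_sub, h1, sub_self]

/-- the element `z` which agrees with `y` on `U` and is trivial on `Orth f U` -/
theorem exists_glue [Finite V] [Finite F] (f : V →ₗ[F] V →ₛₗ[σ] F)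
    (hr : ∀ x y, f x y = 0 → f y x = 0) {y : End F V} {t : ℕ} (hy : y ^ t = 1)
    (hiso : ∀ u v, f (y u) (y v) = f u v) (U : Submodule F V)
    (hU : ∀ u ∈ U, (∀ x ∈ U, f x u = 0) → u = 0) (hUy : ∀ u ∈ U, y u ∈ U) :
    ∃ z : End F V, z ^ t = 1 ∧ (∀ u ∈ U, z u = y u) ∧ (∀ w ∈ Orth f U, z w = w) ∧
      (∀ v, ∃ u ∈ U, ∃ w ∈ Orth f U, v = u + w) ∧ LinearMap.range (z - 1) ≤ U ∧
      (∀ u v, f (z u) (z v) = f u v) := by
  have hc := isCompl_Orth f U hU
  let z : End F V := LinearMap.ofIsCompl hc (y ∘ₗ U.subtype) (Orth f U).subtype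
  have h1 : ∀ u ∈ U, z u = y u := fun u hu => LinearMap.ofIsCompl_apply_left hc ⟨u, hu⟩
  have h2 : ∀ w ∈ Orth f U, z w = w := fun u hu => LinearMap.ofIsCompl_apply_right hc ⟨u, hu⟩
  have h3 : ∀ v, ∃ u ∈ U, ∃ w ∈ Orth f U, v = u + w := by
    intro v
    have : v ∈ U ⊔ Orth f U := by rw [hc.sup_eq_top]; trivial
    rw [Submodule.mem_sup] at this
    obtain ⟨u, hu, w, hw, rfl⟩ := this
    exact ⟨u, hu, w, hw, rfl⟩
  have hpow : ∀ n : ℕ, ∀ u ∈ U, (z ^ n) u = (y ^ n) u ∧ (y ^ n) u ∈ U := by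
    intro n u hu
    induction n with
    | zero => exact ⟨rfl, hu⟩
    | succ n ih =>
      rw [pow_one_apply', pow_one_apply', ih.1, h1 _ ih.2]
      exact ⟨rfl, hUy _ ih.2⟩
  have hpow' : ∀ n : ℕ, ∀ w ∈ Orth f U, (z ^ n) w = w := by
    intro n w hw
    induction n with
    | zero => rfl
    | succ n ih => rw [pow_one_apply', ih, h2 w hw]
  refine ⟨z, ?_, h1, h2, h3, ?_, ?_⟩
  · apply LinearMap.ext
    intro v
    obtain ⟨u, hu, w, hw, rfl⟩ := h3 v
    rw [map_add, (hpow t u hu).1, hpow' t w hw, hy]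
    rfl
  · rintro _ ⟨v, rfl⟩
    obtain ⟨u, hu, w, hw, rfl⟩ := h3 v
    rw [LinearMap.sub_apply, map_add, h1 u hu, h2 w hw]
    have : y u + w - (1 : End F V) (u + w) = y u - u := by
      show y u + w - (u + w) = _
      abel
    rw [this]
    exact U.sub_mem (hUy u hu) hu
  · intro a b
    obtain ⟨u, hu, w, hw, rfl⟩ := h3 a
    obtain ⟨u', hu', w', hw', rfl⟩ := h3 b
    have e1 : z (u + w) = y u + w := by rw [map_add, h1 u hu, h2 w hw]
    have e2 : z (u' + w') = y u' + w' := by rw [map_add, h1 u' hu', h2 w' hw']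
    rw [e1, e2]
    simp only [map_add, LinearMap.add_apply]
    rw [hiso, hw' _ (hUy u hu), hw' u hu, hr _ _ (hw _ (hUy u' hu')), hr _ _ (hw u' hu')]

/-- existence of an isometry of small support -/
theorem exists_small [Finite V] [Finite F] (f : V →ₗ[F] V →ₛₗ[σ] F)
    (hr : ∀ x y, f x y = 0 → f y x = 0) {y : End F V} {t : ℕ} (ht : 0 < t) (htF : (t : F) ≠ 0)
    (hy : y ^ t = 1) (hiso : ∀ u v, f (y u) (y v) = f u v) {v : V}
    (hv : v ∈ LinearMap.range (y - 1)) {i : ℕ} (hvi : f v ((y ^ i) v) ≠ 0) :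
    ∃ (z : End F V) (U : Submodule F V), z ^ t = 1 ∧ z ≠ 1 ∧
      finrank F (LinearMap.range (z - 1)) ≤ t - 1 ∧
      (∀ u v, f (z u) (z v) = f u v) ∧
      (∀ u ∈ U, y u ∈ U) ∧ (∀ u ∈ U, z u = y u) ∧ (∀ w ∈ Orth f U, z w = w) ∧
      (∀ v, ∃ u ∈ U, ∃ w ∈ Orth f U, v = u + w) := by
  classical
  set U0 := Cyc y t v with hU0
  have hU0y : ∀ u ∈ U0, y u ∈ U0 := fun u hu => Cyc_inv ht hy hv hu
  have hinv : ∀ u, (y ^ (t - 1)) (y u) = u := by
    intro u
    rw [← Module.End.mul_apply, ← pow_succ, Nat.sub_add_cancel ht, hy]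
    rfl
  have hpowmem : ∀ n : ℕ, ∀ u ∈ U0, (y ^ n) u ∈ U0 := by
    intro n u hu
    induction n with
    | zero => exact hu
    | succ n ih => rw [pow_one_apply']; exact hU0y _ ih
  let R := U0 ⊓ Orth f U0
  have hRy : ∀ u ∈ R, y u ∈ R := by
    rintro u ⟨hu, hu'⟩
    refine ⟨hU0y u hu, fun x hx => ?_⟩
    have h1 : f x (y u) = f ((y ^ (t - 1)) x) ((y ^ (t - 1)) (y u)) := (iso_pow f hiso _ _ _).symm
    rw [h1, hinv]
    exact hu' _ (hpowmem _ x hx)
  obtain ⟨q, hqy, hq⟩ := exists_compl htF hy R hRy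
  let U := U0 ⊓ q
  have hdec : ∀ x ∈ U0, ∃ a ∈ R, ∃ b ∈ U, x = a + b := by
    intro x hx
    have : x ∈ R ⊔ q := by rw [hq.sup_eq_top]; trivial
    rw [Submodule.mem_sup] at this
    obtain ⟨a, ha, b, hb, rfl⟩ := this
    refine ⟨a, ha, b, ⟨?_, hb⟩, rfl⟩
    have := U0.sub_mem hx ha.1
    rwa [add_sub_cancel_left] at this
  have hU : ∀ u ∈ U, (∀ x ∈ U, f x u = 0) → u = 0 := by
    rintro u ⟨hu, huq⟩ hx
    have h1 : u ∈ R := by
      refine ⟨hu, fun x hxU => ?_⟩
      obtain ⟨a, ha, b, hb, rfl⟩ := hdec x hxU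
      rw [map_add, LinearMap.add_apply, hx b hb, add_zero]
      exact hr _ _ (ha.2 u hu)
    exact (Submodule.disjoint_def.mp hq.disjoint) u h1 huq
  have hUy : ∀ u ∈ U, y u ∈ U := fun u hu => ⟨hU0y u hu.1, hqy u hu.2⟩
  obtain ⟨z, hz1, hz2, hz3, hz4, hz5, hz6⟩ := exists_glue f hr hy hiso U hU hUy
  have hle : U ≤ U0 := inf_le_left
  have hne : ∃ u ∈ U, u ≠ 0 := by
    by_contra hcon
    push Not at hcon
    have h1 : ∀ x ∈ U0, x ∈ R := by
      intro x hx
      obtain ⟨a, ha, b, hb, rfl⟩ := hdec x hx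
      rw [hcon b hb, add_zero]
      exact ha
    have hvU : v ∈ U0 := by
      have := pow_mem_Cyc ht hy hv 0
      exact this
    have h2 := h1 _ (hpowmem i v hvU)
    exact hvi (h2.2 v hvU)
  refine ⟨z, U, hz1, ?_, ?_, hz6, hUy, hz2, hz3, hz4⟩
  · rintro rfl
    obtain ⟨u, hu, hu0⟩ := hne
    apply hu0
    have h1 : y u = u := (hz2 u hu).symm
    -- `u` is in the range of `y - 1`
    have h2 : U0 ≤ LinearMap.range (y - 1) := by
      rw [hU0, Cyc, Submodule.span_le]
      rintro _ ⟨j, rfl⟩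
      obtain ⟨w, rfl⟩ := hv
      refine ⟨(y ^ (j : ℕ)) w, ?_⟩
      show y ((y ^ (j : ℕ)) w) - (y ^ (j : ℕ)) w = (y ^ (j : ℕ)) (y w - w)
      rw [map_sub, ← pow_one_apply', pow_succ]
      rfl
    have h3 := sum_pow_eq_zero hy (h2 (hle hu))
    have h4 : ∀ k : ℕ, (y ^ k) u = u := by
      intro k
      induction k with
      | zero => rfl
      | succ k ih => rw [pow_one_apply', ih, h1]
    rw [Finset.sum_congr rfl (fun k _ => h4 k), Finset.sum_const, Finset.card_range, ← Nat.cast_smul_eq_nsmul F,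
      smul_eq_zero] at h3
    exact h3.resolve_left htF
  · exact (Submodule.finrank_mono (hz5.trans hle)).trans (finrank_Cyc y t v)

theorem pow_sub_mem (y : End F V) (n : ℕ) (v : V) : (y ^ n) v - v ∈ LinearMap.range (y - 1) := by
  induction n with
  | zero => simp
  | succ n ih =>
    have h1 : (y ^ (n + 1)) v - v = (y - 1) ((y ^ n) v) + ((y ^ n) v - v) := by
      rw [pow_one_apply']
      show _ = (y ((y ^ n) v) - (y ^ n) v) + _
      abel
    rw [h1]
    exact Submodule.add_mem _ ⟨_, rfl⟩ ih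

/-- a fixed vector in the commutator space is zero -/
theorem eq_zero_of_fixed {y : End F V} {t : ℕ} (htF : (t : F) ≠ 0) (hy : y ^ t = 1) {u : V}
    (hu : u ∈ LinearMap.range (y - 1)) (h1 : y u = u) : u = 0 := by
  have h3 := sum_pow_eq_zero hy hu
  have h4 : ∀ k : ℕ, (y ^ k) u = u := by
    intro k
    induction k with
    | zero => rfl
    | succ k ih => rw [pow_one_apply', ih, h1]
  rw [Finset.sum_congr rfl (fun k _ => h4 k), Finset.sum_const, Finset.card_range,
    ← Nat.cast_smul_eq_nsmul F, smul_eq_zero] at h3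
  exact h3.resolve_left htF

/-- the commutator space is nondegenerate -/
theorem nondeg_range (f : V →ₗ[F] V →ₛₗ[σ] F) (hnd : ∀ x, (∀ y, f y x = 0) → x = 0)
    {y : End F V} {t : ℕ} (htF : (t : F) ≠ 0) (hy : y ^ t = 1)
    (hiso : ∀ u v, f (y u) (y v) = f u v) {w : V} (hw : w ∈ LinearMap.range (y - 1))
    (h : ∀ x ∈ LinearMap.range (y - 1), f x w = 0) : w = 0 := by
  apply hnd
  intro v
  -- the fixed vector
  set N := ∑ i ∈ Finset.range t, (y ^ i) v with hN
  have hNf : y N = N := by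
    have h1 := Finset.sum_range_succ (fun i => (y ^ i) v) t
    have h2 := Finset.sum_range_succ' (fun i => (y ^ i) v) t
    rw [h1] at h2
    simp only [hy, pow_zero] at h2
    have h3 := add_right_cancel h2
    rw [hN, map_sum]
    rw [h3]
    refine Finset.sum_congr rfl fun i _ => ?_
    rw [pow_one_apply']
  have h1 : f N w = 0 := by
    obtain ⟨w', rfl⟩ := hw
    have : (y - 1) w' = y w' - w' := rfl
    rw [this, map_sub]
    have h2 := hiso N w'
    rw [hNf] at h2
    rw [h2, sub_self]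
  have h2 : N - (t : F) • v ∈ LinearMap.range (y - 1) := by
    have h3 : N - (t : F) • v = ∑ i ∈ Finset.range t, ((y ^ i) v - v) := by
      rw [Finset.sum_sub_distrib, Finset.sum_const, Finset.card_range, Nat.cast_smul_eq_nsmul]
    rw [h3]
    exact Submodule.sum_mem _ fun i _ => pow_sub_mem y i v
  have h3 := h _ h2
  rw [map_sub, LinearMap.sub_apply, h1, zero_sub, neg_eq_zero, map_smul, LinearMap.smul_apply,
    smul_eq_mul, mul_eq_zero] at h3
  exact h3.resolve_left htF

theorem exists_range_ne {y : End F V} (hy1 : y ≠ 1) : ∃ v ∈ LinearMap.range (y - 1), v ≠ 0 := by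
  by_contra hcon
  push Not at hcon
  apply hy1
  apply LinearMap.ext
  intro v
  have := hcon _ ⟨v, rfl⟩
  have h1 : y v - v = 0 := this
  rw [sub_eq_zero] at h1
  exact h1

/-- the vector for a symmetric or alternating form -/
theorem exists_vec (f : V →ₗ[F] V →ₗ[F] F) (hnd : ∀ x, (∀ y, f y x = 0) → x = 0) {ε : F}
    (hε : ε * ε = 1) (hsym : ∀ x y, f x y = ε * f y x)
    {y : End F V} {t : ℕ} (hodd : Odd t) (htF : (t : F) ≠ 0) (hy : y ^ t = 1) (hy1 : y ≠ 1)
    (hiso : ∀ u v, f (y u) (y v) = f u v) :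
    ∃ v ∈ LinearMap.range (y - 1), f v ((y ^ 1) v) ≠ 0 := by
  by_contra hcon
  push Not at hcon
  rw [pow_one] at hcon
  have ht : 0 < t := hodd.pos
  have hyW : ∀ v ∈ LinearMap.range (y - 1), y v ∈ LinearMap.range (y - 1) := by
    rintro _ ⟨v, rfl⟩
    refine ⟨y v, ?_⟩
    show y (y v) - y v = y (y v - v)
    rw [map_sub]
  have hyW' : ∀ n : ℕ, ∀ v ∈ LinearMap.range (y - 1), (y ^ n) v ∈ LinearMap.range (y - 1) := by
    intro n v hv
    induction n with
    | zero => exact hv
    | succ n ih => rw [pow_one_apply']; exact hyW _ ih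
  have h1 : ∀ v ∈ LinearMap.range (y - 1), y (y v) = -(ε • v) := by
    intro v hv
    have h2 : y v + ε • (y ^ (t - 1)) v = 0 := by
      refine nondeg_range f hnd htF hy hiso
        (Submodule.add_mem _ (hyW v hv) (Submodule.smul_mem _ _ (hyW' _ v hv))) ?_
      intro u hu
      have h3 := hcon (u + v) (Submodule.add_mem _ hu hv)
      have h4 := hcon u hu
      have h5 := hcon v hv
      simp only [map_add, LinearMap.add_apply] at h3
      have h6 : f v (y u) = ε * f u ((y ^ (t - 1)) v) := by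
        rw [hsym, ← hiso u ((y ^ (t - 1)) v)]
        congr 2
        rw [← pow_one_apply', Nat.sub_add_cancel ht, hy]
        rfl
      rw [map_add, map_smul, smul_eq_mul, ← h6]
      rw [h4, h5] at h3
      rw [← h3]
      ring
    have h3 := congrArg y h2
    rw [map_add, map_smul, ← pow_one_apply', Nat.sub_add_cancel ht, hy, map_zero] at h3
    exact eq_neg_of_add_eq_zero_left h3
  obtain ⟨v, hv, hv0⟩ := exists_range_ne hy1
  apply hv0
  refine eq_zero_of_fixed htF hy hv ?_
  have h4 : (y ^ 4) v = v := by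
    have e : (y ^ 4) v = y (y (y (y v))) := by
      simp only [pow_succ, pow_zero, one_mul, Module.End.mul_apply]
    rw [e, h1 _ (hyW _ (hyW v hv)), h1 v hv, smul_neg, neg_neg, smul_smul, hε, one_smul]
  have h5 : ∀ k : ℕ, (y ^ (4 * k)) v = v := by
    intro k
    induction k with
    | zero => rfl
    | succ k ih =>
      rw [Nat.mul_succ, pow_add_apply, h4, ih]
  obtain ⟨k, rfl⟩ := hodd
  have h6 : (2 * k + 1) * (2 * k + 1) = 4 * (k * k + k) + 1 := by ring
  have h7 : y ^ ((2 * k + 1) * (2 * k + 1)) = 1 := by rw [pow_mul, hy, one_pow]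
  rw [h6] at h7
  have h8 := LinearMap.congr_fun h7 v
  rw [pow_one_apply', h5] at h8
  exact h8

/-- the vector for a hermitian form -/
theorem exists_vec_herm (f : V →ₗ[F] V →ₛₗ[σ] F) (hnd : ∀ x, (∀ y, f y x = 0) → x = 0) {c : F}
    (hc : σ c ≠ c)
    {y : End F V} {t : ℕ} (ht : 0 < t) (htF : (t : F) ≠ 0) (hy : y ^ t = 1) (hy1 : y ≠ 1)
    (hiso : ∀ u v, f (y u) (y v) = f u v) :
    ∃ v ∈ LinearMap.range (y - 1), f v ((y ^ 1) v) ≠ 0 := by
  by_contra hcon
  push Not at hcon
  rw [pow_one] at hcon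
  have hyW : ∀ v ∈ LinearMap.range (y - 1), y v ∈ LinearMap.range (y - 1) := by
    rintro _ ⟨v, rfl⟩
    refine ⟨y v, ?_⟩
    show y (y v) - y v = y (y v - v)
    rw [map_sub]
  have hpol : ∀ u ∈ LinearMap.range (y - 1), ∀ v ∈ LinearMap.range (y - 1),
      f u (y v) + f v (y u) = 0 := by
    intro u hu v hv
    have h3 := hcon (u + v) (Submodule.add_mem _ hu hv)
    have h4 := hcon u hu
    have h5 := hcon v hv
    simp only [map_add, LinearMap.add_apply] at h3
    rw [h4, h5] at h3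
    rw [← h3]
    ring
  have h1 : ∀ v ∈ LinearMap.range (y - 1), y v = 0 := by
    intro v hv
    refine nondeg_range f hnd htF hy hiso (hyW v hv) ?_
    intro u hu
    have h2 := hpol u hu v hv
    have h3 := hpol (c • u) (Submodule.smul_mem _ _ hu) v hv
    rw [map_smul, LinearMap.smul_apply, map_smul, LinearMap.map_smulₛₗ, smul_eq_mul,
      smul_eq_mul] at h3
    have h4 : f v (y u) = - f u (y v) := by rw [eq_neg_iff_add_eq_zero, add_comm]; exact h2
    rw [h4] at h3
    have h5 : (c - σ c) * f u (y v) = 0 := by rw [← h3]; ring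
    rcases mul_eq_zero.mp h5 with h6 | h6
    · exact absurd (sub_eq_zero.mp h6).symm hc
    · exact h6
  obtain ⟨v, hv, hv0⟩ := exists_range_ne hy1
  apply hv0
  have h2 : (y ^ t) v = 0 := by
    obtain ⟨m, rfl⟩ : ∃ m, t = m + 1 := ⟨t - 1, by omega⟩
    rw [pow_add_apply, pow_one, h1 v hv, map_zero]
  rw [hy] at h2
  exact h2

end Cfsg.Agent.H170.HL
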