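import Cfsg.Agent.H170.HL.PZ2
import Cfsg.Agent.H170.HL.Forms
import Cfsg.Agent.H170.HL.Small

/-!
# `P(z)` for groups preserving a symmetric or alternating form (helper170)
-/

set_option autoImplicit false

namespace Cfsg.Agent.H170.HL

open Module Cfsg.Agent.H167.OP Matrix

variable {F : Type*} [Field F] {ι : Type*} [Fintype ι] [DecidableEq ι] {K : Type*} [Group K]
  {G : Type*} [Group G]

/-- the representation attached to a homomorphism into matrices -/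
noncomputable def rep (μ : K →* Matrix ι ι F) : Representation F K (ι → F) :=
  ((Matrix.toLinAlgEquiv' : Matrix ι ι F ≃ₐ[F] Module.End F (ι → F)) :
    Matrix ι ι F →* Module.End F (ι → F)).comp μ

theorem rep_apply (μ : K →* Matrix ι ι F) (k : K) (v : ι → F) : rep μ k v = μ k *ᵥ v := rfl

theorem rep_injective {μ : K →* Matrix ι ι F} (hμ : Function.Injective μ) :
    Function.Injective (rep μ) :=
  (Matrix.toLinAlgEquiv' : Matrix ι ι F ≃ₐ[F] Module.End F (ι → F)).injective.comp hμ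

/-- `P(z)` -/
def PZ (t : ℕ) (π : Set ℕ) (z : G) : Prop :=
  ∀ g : G, Group.IsSolvable (Subgroup.closure {z, g * z * g⁻¹}) →
    (∀ r : ℕ, r.Prime → r ∣ Nat.card (Subgroup.closure {z, g * z * g⁻¹}) → r ∈ π) →
    IsPGroup t (Subgroup.closure {z, g * z * g⁻¹})

theorem twoP_of_form [Finite K] {V : Type*} [AddCommGroup V] [Module F V] [FiniteDimensional F V]
    (ρ : Representation F K V) (f : V →ₗ[F] V →ₗ[F] F)
    (hf : ∀ g u v, f (ρ g u) (ρ g v) = f u v) (hnd : ∀ x, (∀ y, f y x = 0) → x = 0)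
    (L : Subgroup K) : TwoP ρ L := by
  intro r hr hodd hrF D E _ hED hab hexp hV
  have hcard : ∀ X : Subgroup K, X ≤ D → (Nat.card X : F) ≠ 0 := by
    intro X hX
    have hrf : Fact r.Prime := ⟨hr⟩
    have h1 : IsPGroup r X := fun x => ⟨1, Subtype.ext (by simpa using hexp x (hX x.2))⟩
    obtain ⟨n, hn⟩ := IsPGroup.iff_card.mp h1
    rw [hn, Nat.cast_pow]
    exact pow_ne_zero _ hrF
  exact two_le_VE ρ f hf hnd hED (hcard E hED) (hcard D (le_refl D)) hab hodd hexp hV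

/-- the largest prime of `π` dividing the order -/
theorem exists_max_prime [Finite G] (π : Set ℕ)
    (hne : ∃ r ∈ π, r.Prime ∧ r ∣ Nat.card G) :
    ∃ t ∈ π, t.Prime ∧ t ∣ Nat.card G ∧ ∀ r ∈ π, r.Prime → r ∣ Nat.card G → r ≤ t := by
  classical
  let S : Finset ℕ := (Nat.card G).primeFactors.filter (· ∈ π)
  have hS : S.Nonempty := by
    obtain ⟨r, hr, hrp, hrd⟩ := hne
    exact ⟨r, Finset.mem_filter.mpr ⟨Nat.mem_primeFactors.mpr ⟨hrp, hrd, Nat.card_pos.ne'⟩, hr⟩⟩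
  obtain ⟨t, ht, hmax⟩ := S.exists_max_image id hS
  rw [Finset.mem_filter, Nat.mem_primeFactors] at ht
  refine ⟨t, ht.2, ht.1.1, ht.1.2.1, ?_⟩
  intro r hr hrp hrd
  exact hmax r (Finset.mem_filter.mpr ⟨Nat.mem_primeFactors.mpr ⟨hrp, hrd, Nat.card_pos.ne'⟩, hr⟩)

/-- **the row theorem for groups with a form** -/
theorem exists_pz_of_form [Finite K] [Finite G] {V : Type*} [AddCommGroup V] [Module F V]
    [FiniteDimensional F V]
    (φ : K →* G) (hφ : Function.Surjective φ) (hker : ∀ k, φ k = 1 → ∀ x, k * x = x * k)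
    (ρ : Representation F K V) (hρ : Function.Injective ρ) (f : V →ₗ[F] V →ₗ[F] F)
    (hf : ∀ g u v, f (ρ g u) (ρ g v) = f u v) (hnd : ∀ x, (∀ y, f y x = 0) → x = 0)
    (hbeta : ∀ t : ℕ, t.Prime → Odd t → (t : F) ≠ 0 → BetaP ρ t)
    (π : Set ℕ) (h2 : 2 ∉ π) (hp : ∀ r ∈ π, r.Prime → (r : F) ≠ 0)
    (hsm : ∀ t : ℕ, t.Prime → Odd t → (t : F) ≠ 0 → t ∣ Nat.card G →
      ∃ z : K, φ z ≠ 1 ∧ z ^ t = 1 ∧ rk ρ z ≤ t - 1)
    (hne : ∃ r ∈ π, r.Prime ∧ r ∣ Nat.card G) :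
    ∃ t ∈ π, t.Prime ∧ t ∣ Nat.card G ∧ ∃ z : G, z ≠ 1 ∧ z ^ t = 1 ∧ PZ t π z := by
  classical
  obtain ⟨t, htπ, ht, htd, hmax⟩ := exists_max_prime π hne
  have hodd : ∀ r ∈ π, r.Prime → Odd r := by
    intro r hr hrp
    rcases hrp.eq_two_or_odd' with h | h
    · exact absurd (h ▸ hr) h2
    · exact h
  obtain ⟨z, hz1, hzt, hzr⟩ := hsm t ht (hodd t htπ ht) (hp t htπ ht) htd
  refine ⟨t, htπ, ht, htd, φ z, hz1, by rw [← map_pow, hzt, map_one], ?_⟩
  intro g hsol hpi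
  obtain ⟨g, rfl⟩ := hφ g
  have hmap : (Subgroup.closure {z, g * z * g⁻¹}).map φ =
      Subgroup.closure {φ z, φ g * φ z * (φ g)⁻¹} := by
    rw [MonoidHom.map_closure, Set.image_pair, map_mul, map_mul, map_inv]
  rw [← hmap] at hsol hpi ⊢
  refine isPGroup_pair ρ hρ ht z g hzt hzr φ hker ?_ hsol (hbeta t ht (hodd t htπ ht) (hp t htπ ht))
    (twoP_of_form ρ f hf hnd _)
  intro r hr hrt hrd
  have h1 := hpi r hr hrd
  have h2 := hmax r h1 hr (hrd.trans (Subgroup.card_subgroup_dvd_card _))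
  exact ⟨lt_of_le_of_ne h2 hrt, hodd r h1 hr, hp r h1 hr⟩

end Cfsg.Agent.H170.HL
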