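import Cfsg.Agent.H170.HL.RowForm
import Cfsg.Agent.ClassicalGeometry.SympInvolutions
import Cfsg.Prelude.Def_Classical

/-!
# `P(z)` for `PSp` (helper170)
-/

set_option autoImplicit false

namespace Cfsg.Agent.H170.HL.SpRow

open Module Cfsg.Agent.H167.OP Matrix

variable {F : Type*} [Field F] {m : ℕ}

/-- inclusion into matrices -/
def inc (m : ℕ) (F : Type*) [Field F] :
    symplecticGroup (Fin m) F →* Matrix (Fin m ⊕ Fin m) (Fin m ⊕ Fin m) F :=
  (symplecticGroup (Fin m) F).subtype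

theorem inc_injective : Function.Injective (inc m F) := Subtype.val_injective

/-- the form -/
noncomputable def frm (m : ℕ) (F : Type*) [Field F] :
    (Fin m ⊕ Fin m → F) →ₗ[F] (Fin m ⊕ Fin m → F) →ₗ[F] F :=
  Matrix.toLinearMap₂' F (J (Fin m) F)

theorem frm_apply (u v : Fin m ⊕ Fin m → F) : frm m F u v = u ⬝ᵥ (J (Fin m) F *ᵥ v) :=
  Matrix.toLinearMap₂'_apply' _ _ _

theorem frm_mulVec (A : Matrix (Fin m ⊕ Fin m) (Fin m ⊕ Fin m) F) (u v : Fin m ⊕ Fin m → F) :
    frm m F (A *ᵥ u) (A *ᵥ v) = u ⬝ᵥ ((Aᵀ * J (Fin m) F * A) *ᵥ v) := by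
  rw [frm_apply, ← vecMul_transpose, ← dotProduct_mulVec, Matrix.mulVec_mulVec, Matrix.mulVec_mulVec,
    Matrix.mul_assoc]

theorem frm_sym (u v : Fin m ⊕ Fin m → F) : frm m F u v = (-1) * frm m F v u := by
  rw [frm_apply, frm_apply, dotProduct_comm, dotProduct_mulVec v, ← mulVec_transpose, J_transpose,
    neg_mulVec, neg_dotProduct]
  ring

theorem frm_nondeg (x : Fin m ⊕ Fin m → F) (h : ∀ y, frm m F y x = 0) : x = 0 := by
  have h1 : J (Fin m) F *ᵥ x = 0 := by
    apply dotProduct_eq_zero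
    intro y
    rw [dotProduct_comm]
    have := h y
    rwa [frm_apply] at this
  have h2 : J (Fin m) F *ᵥ (J (Fin m) F *ᵥ x) = 0 := by rw [h1, mulVec_zero]
  rw [mulVec_mulVec, J_squared, neg_mulVec, one_mulVec, neg_eq_zero] at h2
  exact h2

theorem frm_iso (A : symplecticGroup (Fin m) F) (u v : Fin m ⊕ Fin m → F) :
    frm m F (rep (inc m F) A u) (rep (inc m F) A v) = frm m F u v := by
  rw [rep_apply, rep_apply, frm_mulVec, frm_apply]
  have h1 : (inc m F A)ᵀ * J (Fin m) F * inc m F A = J (Fin m) F := SymplecticGroup.mem_iff'.mp A.2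
  rw [h1]

/-- an endomorphism preserving the form belongs to the group -/
theorem exists_of_iso (z : Module.End F (Fin m ⊕ Fin m → F))
    (hz : ∀ u v, frm m F (z u) (z v) = frm m F u v) :
    ∃ A : symplecticGroup (Fin m) F, rep (inc m F) A = z := by
  let A : Matrix (Fin m ⊕ Fin m) (Fin m ⊕ Fin m) F := LinearMap.toMatrix' z
  have hA : ∀ v, A *ᵥ v = z v := fun v => by
    have := Matrix.toLin'_apply A v
    rw [← this, Matrix.toLin'_toMatrix']
  have hmem : A ∈ symplecticGroup (Fin m) F := by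
    rw [SymplecticGroup.mem_iff']
    ext i j
    have h1 := hz (Pi.single i 1) (Pi.single j 1)
    rw [← hA, ← hA, frm_mulVec, frm_apply] at h1
    simpa using h1
  refine ⟨⟨A, hmem⟩, ?_⟩
  apply LinearMap.ext
  intro v
  exact hA v

theorem rep_pow_eq {K : Type*} [Group K] {V : Type*} [AddCommGroup V] [Module F V]
    (ρ : Representation F K V) (hρ : Function.Injective ρ) {k : K} {n : ℕ} : k ^ n = 1 ↔ ρ k ^ n = 1 := by
  rw [← map_pow]
  constructor
  · intro h; rw [h, map_one]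
  · intro h; exact hρ (by rw [h, map_one])

/-- existence of an element of small support -/
theorem exists_small_sp [Finite F] {t : ℕ} (ht : t.Prime) (hodd : Odd t) (htF : (t : F) ≠ 0)
    (htd : t ∣ Nat.card (symplecticGroup (Fin m) F)) :
    ∃ z : symplecticGroup (Fin m) F, z ∉ Subgroup.center (symplecticGroup (Fin m) F) ∧ z ^ t = 1 ∧
      rk (rep (inc m F)) z ≤ t - 1 := by
  classical
  have htf : Fact t.Prime := ⟨ht⟩
  have : Finite (symplecticGroup (Fin m) F) := inferInstance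
  obtain ⟨y, hy⟩ := exists_prime_orderOf_dvd_card' (G := symplecticGroup (Fin m) F) t htd
  have hρ := rep_injective (inc_injective (m := m) (F := F))
  have hyt : (rep (inc m F) y) ^ t = 1 := by
    rw [← rep_pow_eq _ hρ, ← hy, pow_orderOf_eq_one]
  have hy1 : rep (inc m F) y ≠ 1 := by
    intro h
    have h1 : y = 1 := hρ (by rw [h, map_one])
    rw [h1, orderOf_one] at hy
    exact ht.one_lt.ne hy
  have hiso := frm_iso (m := m) (F := F) y
  obtain ⟨v, hv, hvi⟩ := exists_vec (frm m F) frm_nondeg (ε := -1) (by ring) frm_sym hodd htF hyt hy1 hiso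
  have hr : ∀ x y, frm m F x y = 0 → frm m F y x = 0 := by
    intro x y h
    rw [frm_sym, h, mul_zero]
  obtain ⟨z, U, hz1, hz2, hz3, hz4, -⟩ := exists_small (frm m F) hr ht.pos htF hyt hiso hv hvi
  obtain ⟨A, hA⟩ := exists_of_iso z hz4
  refine ⟨A, ?_, ?_, ?_⟩
  · intro hc
    apply hz2
    have hAt : A ^ t = 1 := by rw [rep_pow_eq _ hρ, hA, hz1]
    have h1 := Cfsg.Agent.ClassicalGeometry.SympInvolutions.center_eq hc
    have h2 : A * A = 1 := by
      apply Subtype.ext
      show (A : Matrix (Fin m ⊕ Fin m) (Fin m ⊕ Fin m) F) *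
        (A : Matrix (Fin m ⊕ Fin m) (Fin m ⊕ Fin m) F) = 1
      rcases h1 with h | h
      · rw [h, one_mul]
      · rw [h, neg_mul_neg, one_mul]
    have h3 : A = 1 := by
      obtain ⟨k, rfl⟩ := hodd
      rw [pow_succ, pow_mul, pow_two, h2, one_pow, one_mul] at hAt
      exact hAt
    rw [← hA, h3, map_one]
  · rw [rep_pow_eq _ hρ, hA, hz1]
  · unfold rk
    rw [hA]
    exact hz3

/-- **`P(z)` for `PSp`** -/
theorem exists_pz [Finite F] {G : Type*} [Group G] [Finite G] (e : G ≃* Cfsg.PSp m F)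
    (hbeta : ∀ t : ℕ, t.Prime → Odd t → (t : F) ≠ 0 → BetaP (rep (inc m F)) t)
    (π : Set ℕ) (h2 : 2 ∉ π) (hp : ∀ r ∈ π, r.Prime → (r : F) ≠ 0)
    (hne : ∃ r ∈ π, r.Prime ∧ r ∣ Nat.card G) :
    ∃ t ∈ π, t.Prime ∧ t ∣ Nat.card G ∧ ∃ z : G, z ≠ 1 ∧ z ^ t = 1 ∧ PZ t π z := by
  have : Finite (symplecticGroup (Fin m) F) := inferInstance
  let φ : symplecticGroup (Fin m) F →* G :=
    (e.symm : Cfsg.PSp m F →* G).comp
      (QuotientGroup.mk' (Subgroup.center (symplecticGroup (Fin m) F)))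
  have hφ : Function.Surjective φ :=
    e.symm.surjective.comp (QuotientGroup.mk'_surjective _)
  have hφ1 : ∀ k, φ k = 1 ↔ k ∈ Subgroup.center (symplecticGroup (Fin m) F) := by
    intro k
    rw [← QuotientGroup.eq_one_iff]
    constructor
    · intro h
      exact e.symm.injective (h.trans (map_one e.symm).symm)
    · intro h
      show e.symm (QuotientGroup.mk' _ k) = 1
      rw [QuotientGroup.mk'_apply, h, map_one]
  refine exists_pz_of_form φ hφ (fun k hk x => ?_) (rep (inc m F)) (rep_injective inc_injective)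
    (frm m F) frm_iso frm_nondeg hbeta π h2 hp ?_ hne
  · exact (Subgroup.mem_center_iff.mp ((hφ1 k).mp hk) x).symm
  · intro t ht hodd htF htd
    have h1 : Nat.card G ∣ Nat.card (symplecticGroup (Fin m) F) :=
      Subgroup.card_dvd_of_surjective φ hφ
    obtain ⟨z, hz1, hz2, hz3⟩ := exists_small_sp ht hodd htF (htd.trans h1)
    exact ⟨z, fun h => hz1 ((hφ1 z).mp h), hz2, hz3⟩

end Cfsg.Agent.H170.HL.SpRow
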